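import Groth.Agent.DeltaNorm.AxesPoint
import Groth.Agent.DualGeneric.GlobalField
import Groth.Agent.NodalRed.Basic
import Groth.Agent.NodeBr.Branch
import Groth.Agent.NagataOne.Branch
import Groth.Agent.S0549
import Groth.Agent.CurveRR.Zero
import Groth.Agent.WeilLib.Iterate
import Groth.Agent.SepBC.Closed
import Groth.Prelude.Def_CurvBase

/-!
Counting on nodal curves: components, residue fields and local defects.
-/

set_option autoImplicit false
set_option linter.style.haveILetI false
set_option backward.isDefEq.respectTransparency false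

universe u

open CategoryTheory CategoryTheory.Limits AlgebraicGeometry TopologicalSpace IsLocalRing

namespace Groth.Agent.DeltaNorm

open Groth.Agent

/-- the indicator sum of a predicate -/
theorem finsum_indicator_one {α : Type u} (p : α → Prop) [DecidablePred p] :
    (∑ᶠ x, if p x then (1 : ℤ) else 0) = (Nat.card {x // p x} : ℤ) := by
  by_cases hf : {x | p x}.Finite
  · rw [finsum_eq_sum_of_support_subset (s := hf.toFinset) _ (fun x hx => by
      rw [Set.Finite.coe_toFinset]
      by_contra h
      exact hx (if_neg h))]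
    rw [Finset.sum_congr rfl (fun x hx => if_pos (show p x from hf.mem_toFinset.1 hx))]
    rw [Finset.sum_const, Nat.smul_one_eq_cast,
      show Nat.card {x // p x} = hf.toFinset.card from Nat.card_eq_card_finite_toFinset hf]
  · have hinf : Infinite {x // p x} := Set.infinite_coe_iff.2 hf
    rw [Nat.card_eq_zero_of_infinite, Nat.cast_zero]
    refine finsum_of_infinite_support ?_
    rw [show (Function.support fun x => if p x then (1 : ℤ) else 0) = {x | p x} from Set.ext fun x => by
      by_cases h : p x <;> simp [h]]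
    exact hf

/-- `δ` only depends on the ring -/
theorem deltaInv_congr {A B : Type u} [CommRing A] [CommRing B] (σ : A ≃+* B) :
    Curv2.deltaInv A = Curv2.deltaInv B := by
  letI : Algebra A B := σ.toRingHom.toAlgebra
  let E : FractionRing A ≃+* FractionRing B := IsFractionRing.ringEquivOfRingEquiv σ
  have hE : ∀ a, E (algebraMap A (FractionRing A) a) = algebraMap B (FractionRing B) (σ a) :=
    fun a => IsFractionRing.ringEquivOfRingEquiv_algebraMap σ a
  have hfwd : ∀ x : integralClosure A (FractionRing A), E x.1 ∈ integralClosure B (FractionRing B) := fun x =>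
    IsIntegral.map_of_comp_eq σ.toRingHom E.toRingHom (RingHom.ext fun a => (hE a).symm) x.2
  let f : integralClosure A (FractionRing A) →ₗ[A] integralClosure B (FractionRing B) :=
    { toFun := fun x => ⟨E x.1, hfwd x⟩
      map_add' := fun x y => Subtype.ext (map_add E _ _)
      map_smul' := fun a x => Subtype.ext (by
        show E (a • x.1) = a • E x.1
        rw [Algebra.smul_def, Algebra.smul_def, map_mul, hE, IsScalarTower.algebraMap_apply A B (FractionRing B)]
        rfl) }
  let L := LinearMap.range (Algebra.linearMap B (integralClosure B (FractionRing B)))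
  let g := (L.mkQ.restrictScalars A).comp f
  have hsurj : Function.Surjective g := fun y => by
    obtain ⟨⟨z, hz⟩, rfl⟩ := L.mkQ_surjective y
    refine ⟨⟨E.symm z, IsIntegral.map_of_comp_eq σ.symm.toRingHom E.symm.toRingHom (RingHom.ext fun b =>
      E.injective (by simp [hE])) hz⟩, congrArg L.mkQ (Subtype.ext (E.apply_symm_apply z))⟩
  have hker : LinearMap.ker g = LinearMap.range (Algebra.linearMap A (integralClosure A (FractionRing A))) := by
    refine le_antisymm (fun x hx => ?_) ?_
    · obtain ⟨b, hb⟩ := (Submodule.Quotient.mk_eq_zero L).1 hx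
      refine ⟨σ.symm b, Subtype.ext (E.injective ?_)⟩
      show E (algebraMap A _ (σ.symm b)) = E x.1
      rw [hE, σ.apply_symm_apply]
      exact congrArg Subtype.val hb
    · rintro _ ⟨a, rfl⟩
      exact (Submodule.Quotient.mk_eq_zero L).2 ⟨σ a, Subtype.ext (hE a).symm⟩
  exact ((Submodule.quotEquivOfEq _ _ hker.symm).trans (LinearMap.quotKerEquivOfSurjective g hsurj)).length_eq.trans
    (Module.length_eq_of_surjective (R := B) (S := A) σ.surjective)

variable (k : Type u) [Field k] [IsAlgClosed k] {X : Scheme.{u}} [X.Over (Spec (CommRingCat.of k))]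

attribute [local instance] Curv2.resAlgebra

/-- closed points have residue field `k` -/
theorem finrank_residueField_one [LocallyOfFiniteType (X ↘ Spec (CommRingCat.of k))] {x : X}
    (hx : IsClosed ({x} : Set X)) : Module.finrank k (X.residueField x) = 1 := by
  have h : IsFinite (X.fromSpecResidueField x ≫ (X ↘ Spec (CommRingCat.of k))) := by
    rw [isClosed_singleton_iff_isClosedImmersion] at hx
    rw [isFinite_iff_locallyOfFiniteType_of_jacobsonSpace]
    infer_instance
  rw [WeilLib.fromSpecResidueField_comp, SepBC.kStr_eq_resMap] at h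
  haveI : Module.Finite k (X.residueField x) := (IsFinite.SpecMap_iff _).1 h
  have hb := IsAlgClosed.algebraMap_bijective_of_isIntegral (k := k) (K := X.residueField x)
  rw [← (LinearEquiv.ofBijective (Algebra.linearMap k (X.residueField x)) hb).finrank_eq, Module.finrank_self]

/-- the local defect at a node -/
theorem deltaInv_of_isNode [LocallyOfFiniteType (X ↘ Spec (CommRingCat.of k))] [AlgebraicGeometry.IsReduced X]
    (hdim : ∀ Z ∈ irreducibleComponents (X : Type u), topologicalKrullDim Z = 1) {x : X}
    (h : Curv2.IsNode k X x) : Curv2.deltaInv (X.presheaf.stalk x) = 1 := by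
  obtain ⟨B, _, _, _, σ, ⟨e⟩⟩ := NodeBr.exists_model_of_isNode k h
  have hA := dim_stalk_eq_one (X ↘ Spec (CommRingCat.of k)) hdim h.1
  haveI : _root_.IsReduced B := isReduced_of_injective σ.symm.toRingHom σ.symm.injective
  have hax : axesIdeal (AlgebraicClosure k) 2 =
      Ideal.span {(MvPowerSeries.X 0 * MvPowerSeries.X 1 : MvPowerSeries (Fin 2) (AlgebraicClosure k))} := by
    refine le_antisymm (Ideal.span_le.2 ?_) (Ideal.span_mono ?_)
    · rintro _ ⟨i, j, hij, rfl⟩
      refine Ideal.mem_span_singleton.2 ?_
      fin_cases i <;> fin_cases j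
      · exact absurd rfl hij
      · exact dvd_rfl
      · exact ⟨1, by rw [mul_one]; exact mul_comm _ _⟩
      · exact absurd rfl hij
    · rintro _ rfl
      exact ⟨0, 1, by decide, rfl⟩
  have h2 := (delta_branches_of_cpl
    (Nagata.isNagata_of_surjective σ.toRingHom σ.surjective (isNagata_stalk (X ↘ Spec (CommRingCat.of k)) x))
    ((ringKrullDim_eq_of_ringEquiv σ.symm).trans hA) (K := AlgebraicClosure k) (n := 2)
    (e.trans (Ideal.quotEquivOfEq hax.symm))).2
  rw [deltaInv_congr σ]
  cases hb : Curv2.deltaInv B with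
  | top => rw [hb, top_add] at h2; exact absurd h2.symm (ENat.coe_ne_top 2)
  | coe a =>
    rw [hb] at h2
    have : a + 1 = 2 := by exact_mod_cast h2
    have : a = 1 := by omega
    rw [this]
    rfl

/-- smooth points have no defect -/
theorem deltaInv_of_smooth [LocallyOfFiniteType (X ↘ Spec (CommRingCat.of k))]
    (hdim : ∀ Z ∈ irreducibleComponents (X : Type u), topologicalKrullDim Z = 1) {x : X}
    (hx : IsClosed ({x} : Set X)) (U : X.Opens) (hxU : x ∈ U)
    [Smooth (U.ι ≫ (X ↘ Spec (CommRingCat.of k)))] : Curv2.deltaInv (X.presheaf.stalk x) = 0 := by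
  haveI := SmLocalST.isRegularLocalRing_stalk_of_smooth_field (U.ι ≫ (X ↘ Spec (CommRingCat.of k))) ⟨x, hxU⟩
  haveI : IsRegularLocalRing (X.presheaf.stalk x) :=
    IsRegularLocalRing.of_ringEquiv (asIso (U.ι.stalkMap ⟨x, hxU⟩)).commRingCatIsoToRingEquiv.symm
  haveI := RegLoc.isDomain (A := X.presheaf.stalk x)
  haveI : IsDiscreteValuationRing (X.presheaf.stalk x) :=
    Groth.Agent.S0549.dvr_iff.2 ⟨inferInstance, dim_stalk_eq_one (X ↘ Spec (CommRingCat.of k)) hdim hx⟩
  exact NagataOne.deltaInv_eq_zero_of_isDVR _

section components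

variable [IsProper (X ↘ Spec (CommRingCat.of k))]

include k in
theorem finite_connectedComponents :
    Finite (_root_.ConnectedComponents X) ∧ ∀ c : _root_.ConnectedComponents X,
      IsOpen (ConnectedComponents.mk ⁻¹' {c}) := by
  haveI := CurveRR.isNoetherian_of_proper k X
  haveI : Finite (irreducibleComponents (X : Type u)) :=
    (NoetherianSpace.finite_irreducibleComponents (α := X)).to_subtype
  have hs : Function.Surjective (fun Z : irreducibleComponents (X : Type u) =>
      ConnectedComponents.mk Z.2.1.nonempty.some) := fun c => by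
    obtain ⟨x, rfl⟩ := ConnectedComponents.surjective_coe c
    refine ⟨⟨_, irreducibleComponent_mem_irreducibleComponents x⟩, ?_⟩
    refine ConnectedComponents.coe_eq_coe'.2 ?_
    exact isIrreducible_irreducibleComponent.isConnected.isPreconnected.subset_connectedComponent
      mem_irreducibleComponent (Set.Nonempty.some_mem _)
  haveI : Finite (_root_.ConnectedComponents X) := Finite.of_surjective _ hs
  refine ⟨inferInstance, fun c => ?_⟩
  rw [← isClosed_compl_iff, ← Set.preimage_compl, ← Set.biUnion_of_singleton ({c}ᶜ), Set.preimage_iUnion₂]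
  refine (Set.toFinite _).isClosed_biUnion fun d _ => ?_
  obtain ⟨y, rfl⟩ := ConnectedComponents.surjective_coe d
  rw [connectedComponents_preimage_singleton]
  exact isClosed_connectedComponent

include k in
/-- functions on a connected reduced proper open piece are constants -/
theorem surjective_res [AlgebraicGeometry.IsReduced X] (U : X.Opens) (hU : _root_.IsConnected (U : Set X))
    (hUc : IsClosed (U : Set X)) (s : Γ(X, U)) :
    ∃ a : k, s = X.presheaf.map (homOfLE (le_top : U ≤ ⊤)).op (Coh.toGlobal (X ↘ Spec (CommRingCat.of k)) a) := by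
  haveI : IsClosedImmersion U.ι := IsClosedImmersion.of_isPreimmersion U.ι (by rw [Scheme.Opens.range_ι]; exact hUc)
  haveI : ConnectedSpace U.toScheme := isConnected_iff_connectedSpace.1 hU
  let g := U.ι ≫ (X ↘ Spec (CommRingCat.of k))
  letI : U.toScheme.Over (Spec (CommRingCat.of k)) := ⟨g⟩
  haveI : IsProper (U.toScheme ↘ Spec (CommRingCat.of k)) := inferInstanceAs (IsProper g)
  let F : CommRingCat.of k ⟶ Γ(U.toScheme, ⊤) := (Scheme.ΓSpecIso _).inv ≫ g.appTop
  letI : Field Γ(U.toScheme, ⊤) := (DualGeneric.isField_gamma (X := U.toScheme) k).toField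
  letI : Algebra k Γ(U.toScheme, ⊤) := F.hom.toAlgebra
  haveI : Algebra.IsIntegral k Γ(U.toScheme, ⊤) := ⟨by
    have : F.hom.IsIntegral := by
      apply RingHom.isIntegral_respectsIso.2 (e := (Scheme.ΓSpecIso _).symm.commRingCatIsoToRingEquiv)
      exact isIntegral_appTop_of_universallyClosed g
    exact this⟩
  obtain ⟨a, ha⟩ := (IsAlgClosed.algebraMap_bijective_of_isIntegral (k := k) (K := Γ(U.toScheme, ⊤))).2 (U.topIso.inv s)
  refine ⟨a, ?_⟩
  have h1 : s = U.topIso.hom (F.hom a) := by
    rw [show F.hom a = U.topIso.inv s from ha, ← CommRingCat.comp_apply, Iso.inv_hom_id]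
    rfl
  rw [h1]
  have key : U.ι.appTop ≫ U.topIso.hom = X.presheaf.map (homOfLE (le_top : U ≤ ⊤)).op := by
    rw [Scheme.Opens.ι_appTop, Scheme.Opens.topIso_hom, ← Functor.map_comp]
    rfl
  rw [← key]
  rfl

include k in
/-- `h⁰` of a reduced proper scheme is its number of connected components -/
theorem h0_eq_card_connectedComponents [AlgebraicGeometry.IsReduced X] :
    Module.finrank k (Coh.HH X (Coh.structureModule X) 0) = Nat.card (_root_.ConnectedComponents X) := by
  classical
  obtain ⟨hfin, hopen⟩ := finite_connectedComponents (X := X) k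
  haveI := hfin
  letI := Fintype.ofFinite (_root_.ConnectedComponents X)
  let V : _root_.ConnectedComponents X → X.Opens := fun c => ⟨ConnectedComponents.mk ⁻¹' {c}, hopen c⟩
  have hcov : (⊤ : X.Opens) ≤ ⨆ c, V c := fun x _ => Opens.mem_iSup.2 ⟨ConnectedComponents.mk x, rfl⟩
  have hdis : ∀ c d, c ≠ d → V c ⊓ V d = ⊥ := fun c d hcd => le_bot_iff.1 fun x hx => (hcd (hx.1.symm.trans hx.2)).elim
  have hconn : ∀ c, _root_.IsConnected (V c : Set X) ∧ IsClosed (V c : Set X) := fun c => by
    obtain ⟨x, rfl⟩ := ConnectedComponents.surjective_coe c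
    show _root_.IsConnected (ConnectedComponents.mk ⁻¹' {(x : _root_.ConnectedComponents X)}) ∧ _
    rw [connectedComponents_preimage_singleton]
    refine ⟨isConnected_connectedComponent, ?_⟩
    show IsClosed (ConnectedComponents.mk ⁻¹' {(x : _root_.ConnectedComponents X)})
    rw [connectedComponents_preimage_singleton]
    exact isClosed_connectedComponent
  -- the idempotents
  let sf : ∀ c d, Γ(X, V d) := fun c d => if d = c then 1 else 0
  have he : ∀ c, ∃ e : Γ(X, ⊤), ∀ d, X.presheaf.map (homOfLE (le_top : V d ≤ ⊤)).op e = sf c d := fun c => by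
    obtain ⟨e, he, -⟩ := X.sheaf.existsUnique_gluing' (U := V) ⊤ (fun d => homOfLE le_top) hcov (sf c) (fun i j => by
      rcases eq_or_ne i j with rfl | hij
      · rfl
      · exact @Subsingleton.elim _
          (CommRingCat.subsingleton_of_isTerminal (X.sheaf.isTerminalOfEqEmpty (hdis i j hij))) _ _)
    exact ⟨e, he⟩
  choose e he using he
  letI := CurveRR.secMod k (Coh.structureModule X) ⊤
  show CurveRR.h k (Coh.structureModule X) 0 = _
  rw [← CurveRR.finrank_sec]
  let f := X ↘ Spec (CommRingCat.of k)
  let tg : k →+* Γ(X, ⊤) := Coh.toGlobal f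
  have hcst : ∀ a : k, (CurveRR.cst k X ⊤ a : Γ(X, ⊤)) = tg a := fun a =>
    QC.resO_self (le_top : (⊤ : X.Opens) ≤ ⊤) (Coh.toGlobal f a)
  let ψ : (_root_.ConnectedComponents X → k) →ₗ[k] Γ(Coh.structureModule X, ⊤) :=
    { toFun := fun a => show Γ(X, ⊤) from ∑ c, tg (a c) * e c
      map_add' := fun a b => by
        show (∑ c, tg (a c + b c) * e c : Γ(X, ⊤)) = _
        simp only [map_add, add_mul, Finset.sum_add_distrib]
      map_smul' := fun r a => by
        show (∑ c, tg (r * a c) * e c : Γ(X, ⊤)) = CurveRR.cst k X ⊤ r * ∑ c, tg (a c) * e c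
        rw [hcst, Finset.mul_sum]
        simp only [map_mul, mul_assoc] }
  let res : ∀ d, Γ(X, ⊤) →+* Γ(X, V d) := fun d => (X.presheaf.map (homOfLE (le_top : V d ≤ ⊤)).op).hom
  have hres : ∀ (a : _root_.ConnectedComponents X → k) d, res d (show Γ(X, ⊤) from ψ a) = res d (tg (a d)) :=
    fun a d => by
      show res d (∑ c, tg (a c) * e c) = _
      rw [map_sum, Finset.sum_eq_single d]
      · rw [map_mul, show res d (e d) = 1 from (he d d).trans (if_pos rfl), mul_one]
      · intro c _ hc
        rw [map_mul, show res d (e c) = 0 from (he c d).trans (if_neg hc.symm), mul_zero]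
      · exact fun h => absurd (Finset.mem_univ d) h
  have hinj : Function.Injective ψ := by
    rw [← LinearMap.ker_eq_bot, LinearMap.ker_eq_bot']
    refine fun a ha => funext fun d => ?_
    have h1 := hres a d
    rw [show (show Γ(X, ⊤) from ψ a) = 0 from ha, map_zero] at h1
    haveI : Nontrivial Γ(X, V d) := by
      obtain ⟨x, hx⟩ := (hconn d).1.nonempty
      exact (X.presheaf.germ (V d) x hx).hom.domain_nontrivial
    exact ((res d).comp tg).injective (h1.symm.trans (map_zero ((res d).comp tg)).symm)
  have hsurj : Function.Surjective ψ := fun s => by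
    choose a ha using fun d => surjective_res k (V d) (hconn d).1 (hconn d).2 (res d s)
    exact ⟨a, X.sheaf.eq_of_locally_eq' V ⊤ (fun d => homOfLE le_top) hcov (show Γ(X, ⊤) from ψ a) s fun d =>
      (hres a d).trans (ha d).symm⟩
  rw [← (LinearEquiv.ofBijective ψ ⟨hinj, hsurj⟩).finrank_eq, Module.finrank_pi, Nat.card_eq_fintype_card]

end components

end Groth.Agent.DeltaNorm
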