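import Groth.Agent.DeltaNorm.Alg
import Groth.Agent.CurveRR.Zero
import Groth.Agent.CurveRR.GenusMap
import Groth.Agent.QC.Localisation
import Groth.Agent.CycDim.Basic
import Groth.Agent.NagataOne.Dim
import Groth.Agent.ZeroSch.Over
import Groth.Agent.RefStalk.Coherent
import Groth.Prelude.Def_Pi1
import Groth.Prelude.Def_ClSub2

/-!
The cokernel of `O → π_* O` for a normalisation and `δ`-invariants.
-/

set_option autoImplicit false
set_option backward.isDefEq.respectTransparency false
set_option backward.isDefEq.respectTransparency.types false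
set_option linter.style.haveILetI false
set_option maxHeartbeats 1000000

universe u

open CategoryTheory CategoryTheory.Limits AlgebraicGeometry TopologicalSpace Opposite
open Groth.Agent.QC (res resO res_res res_smul res_self)
open scoped TensorProduct nonZeroDivisors

noncomputable section

namespace Groth.Agent.DeltaNorm

variable {X X' : Scheme.{u}} (π : X' ⟶ X) (U : X.Opens)

/-- sections of an open where `π` is an isomorphism -/
theorem bijective_app (hπU : IsIso (π ∣_ U)) {V : X.Opens} (hV : V ≤ U) :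
    Function.Bijective (π.app V).hom := by
  haveI := hπU
  have key : ∀ W : X.Opens, W = V → Function.Bijective (π.app W).hom → Function.Bijective (π.app V).hom := by
    rintro W rfl h; exact h
  refine key (U.ι ''ᵁ U.ι ⁻¹ᵁ V) ?_ ?_
  · rw [Scheme.Hom.image_preimage_eq_opensRange_inf, Scheme.Opens.opensRange_ι]
    exact inf_eq_right.2 hV
  · have h1 := ConcreteCategory.bijective_of_isIso ((π ∣_ U).app (U.ι ⁻¹ᵁ V))
    rw [morphismRestrict_app] at h1
    exact (Function.Bijective.of_comp_iff'
      (ConcreteCategory.bijective_of_isIso (X'.presheaf.map (eqToHom (image_morphismRestrict_preimage π U (U.ι ⁻¹ᵁ V))).op))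
      _).1 h1

/-- functions vanishing after pullback -/
theorem injective_app [IsReduced X] (hU : Dense (U : Set X)) (hπU : IsIso (π ∣_ U)) (V : X.Opens) :
    Function.Injective (π.app V).hom := by
  refine (injective_iff_map_eq_zero _).2 fun r hr => (basicOpen_eq_bot_iff r).1 (le_bot_iff.1 fun y hy => ?_)
  obtain ⟨z, hzr, hzU⟩ := hU.inter_open_nonempty _ (X.basicOpen r).2 ⟨y, hy⟩
  have hzV : z ∈ V := X.basicOpen_le r hzr
  let W := V ⊓ U
  have h0 : (π.app W).hom (X.presheaf.map (homOfLE (inf_le_left : W ≤ V)).op r) = 0 := by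
    have := congrArg (fun φ => φ.hom r) (π.naturality (homOfLE (inf_le_left : W ≤ V)).op)
    exact this.trans ((congrArg _ hr).trans (map_zero (X'.presheaf.map _).hom))
  have h1 := (bijective_app π U hπU (inf_le_right : W ≤ U)).1 (h0.trans (map_zero _).symm)
  have h2 := (X.mem_basicOpen r z hzV).1 hzr
  rw [← X.presheaf.germ_res_apply (homOfLE (inf_le_left : W ≤ V)) z ⟨hzV, hzU⟩ r] at h2
  erw [h1, map_zero] at h2
  exact (not_isUnit_zero h2).elim

/-- the cokernel of `O → π_* O` -/
abbrev Q : X.Modules := cokernel (ClSub.unitToPush π)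

theorem mono_unitToPush [IsReduced X] (hU : Dense (U : Set X)) (hπU : IsIso (π ∣_ U)) :
    Mono (ClSub.unitToPush π) := by
  refine Preadditive.mono_of_cancel_zero _ fun {Z} a ha => Scheme.Modules.hom_ext _ _ fun V => ?_
  ext s
  refine (injective_app π U hU hπU V) (Eq.trans ?_ (map_zero (π.app V).hom).symm)
  exact congrArg (fun ψ : Z ⟶ _ => ψ.app V s) ha

variable (k : Type u) [Field k] [X.Over (Spec (CommRingCat.of k))]

attribute [local instance] Curv2.resAlgebra

/-- sections of the cokernel at an isolated bad point -/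
theorem finrank_section_cokernel [IsLocallyNoetherian X] [LocallyOfFiniteType (X ↘ Spec (CommRingCat.of k))]
    [IsReduced X] [IsFinite π] (hX' : Pi1.IsNormalScheme X')
    (hU : Dense (U : Set X)) (hU' : Dense ((π ⁻¹ᵁ U : X'.Opens) : Set X')) (hπU : IsIso (π ∣_ U))
    {W : X.Opens} (hW : IsAffineOpen W) {x : X} (hx : IsClosed ({x} : Set X)) (hxW : x ∈ W)
    (hbad : ∀ y ∈ W, y ≠ x → y ∈ U) (hgen : ∃ η, η ⤳ x ∧ η ≠ x) :
    letI := CurveRR.secMod k (Q π) W
    Module.Finite k Γ(Q π, W) ∧ (Module.finrank k Γ(Q π, W) : ℤ) =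
      (Module.finrank k (X.residueField x) : ℤ) * ((Curv2.deltaInv (X.presheaf.stalk x)).toNat : ℤ) := by
  classical
  letI := CurveRR.secMod k (Q π) W
  let A := Γ(X, W)
  let B := Γ(X', π ⁻¹ᵁ W)
  letI : Algebra A B := (π.app W).hom.toAlgebra
  haveI : Module.Finite A B := π.finite_app W hW
  haveI : IsNoetherianRing A := IsLocallyNoetherian.component_noetherian ⟨W, hW⟩
  haveI := mono_unitToPush π U hU hπU
  haveI : IsLocallyNoetherian X' := LocallyOfFiniteType.isLocallyNoetherian π
  have hP : Coh.IsCoh ((Scheme.Modules.pushforward π).obj (Coh.structureModule X')) :=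
    QC.isCoh_pushforward_of_isFinite (hM := Groth.Agent.QC.isQCoh_unit X') π
      (RefStalk.isCoh_structureModule (X := X')).2
  have hQ : Coh.IsCoh (Q π) := QC.isCoh_cokernel (QC.isQCoh_unit X) hP _
  haveI : (Q π).IsQuasicoherent := hQ.1
  let πQ := cokernel.π (ClSub.unitToPush π)
  let f : B →ₗ[A] Γ(Q π, W) :=
    { toFun := fun b => πQ.app W b
      map_add' := fun b c => map_add (πQ.app W).hom b c
      map_smul' := fun r b => TMul.app_smul πQ r b }
  have hfs : Function.Surjective f := QC.app_surjective_of_epi hW hP.1 hQ.1 πQ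
  have hS : (ShortComplex.mk (ClSub.unitToPush π) πQ (cokernel.condition _)).ShortExact :=
    { exact := ShortComplex.exact_cokernel _, mono_f := inferInstance, epi_g := inferInstance }
  have hfk : LinearMap.ker f = LinearMap.range (Algebra.linearMap A B) := by
    refine le_antisymm (fun b hb => ?_) ?_
    · obtain ⟨a, ha⟩ := Groth.Agent.SiteCoh.sections_exact (CohFinite.shortExact_toAb hS) W b hb
      exact ⟨a, ha⟩
    · rintro _ ⟨a, rfl⟩
      exact congrArg (fun ψ : Coh.structureModule X ⟶ Q π => ψ.app W a) (cokernel.condition (ClSub.unitToPush π))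
  -- every section is killed near the other points
  have hkill : ∀ (q : Ideal A) (_ : q.IsPrime), q ≠ (hW.primeIdealOf ⟨x, hxW⟩).asIdeal →
      ∀ n : Γ(Q π, W), ∃ g ∉ q, g • n = 0 := by
    intro q hq hne n
    let y := hW.fromSpec ⟨q, hq⟩
    have hyW : y ∈ W := hW.range_fromSpec.le ⟨⟨q, hq⟩, rfl⟩
    have hpy : hW.primeIdealOf ⟨y, hyW⟩ = ⟨q, hq⟩ := hW.fromSpec.isOpenEmbedding.injective (hW.fromSpec_primeIdealOf _)
    have hyx : y ≠ x := fun h => hne (by
      have : hW.primeIdealOf ⟨x, hxW⟩ = hW.primeIdealOf ⟨y, hyW⟩ := congrArg _ (Subtype.ext h.symm)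
      rw [this, hpy])
    obtain ⟨g, hgU, hyg⟩ := hW.exists_basicOpen_le (V := U) ⟨y, hbad y hyW hyx⟩ hyW
    have hgq : g ∉ q := fun h => by
      have := (Groth.Agent.WeakAssLib.mem_primeIdealOf hW hyW g).1 hyg
      rw [hpy] at this
      exact this h
    have h0 : res (Q π) (X.basicOpen_le g) n = 0 := by
      obtain ⟨b, hb⟩ := QC.app_surjective_of_epi (hW.basicOpen g) hP.1 hQ.1 πQ (res (Q π) (X.basicOpen_le g) n)
      obtain ⟨a, ha⟩ := (bijective_app π U hπU hgU).2 b
      rw [← hb, ← ha]
      exact congrArg (fun ψ : Coh.structureModule X ⟶ Q π => ψ.app (X.basicOpen g) a)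
        (cokernel.condition (ClSub.unitToPush π))
    obtain ⟨m, hm⟩ := QC.exists_pow_smul_eq_zero_of_isCompact hW.isCompact g n h0
    exact ⟨g ^ m, fun h => hgq (hq.mem_of_pow_mem m h), hm⟩
  set p := (hW.primeIdealOf ⟨x, hxW⟩).asIdeal with hp
  have hpmax : p.IsMaximal := by
    refine (PrimeSpectrum.isClosed_singleton_iff_isMaximal _).1 ?_
    have : ({hW.primeIdealOf ⟨x, hxW⟩} : Set (PrimeSpectrum A)) = hW.fromSpec ⁻¹' {x} := by
      ext z
      simp only [Set.mem_singleton_iff, Set.mem_preimage]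
      exact ⟨fun h => h ▸ hW.fromSpec_primeIdealOf _, fun h =>
        hW.fromSpec.isOpenEmbedding.injective (h.trans (hW.fromSpec_primeIdealOf ⟨x, hxW⟩).symm)⟩
    rw [this]
    exact hx.preimage hW.fromSpec.continuous
  have hmin : ∀ q : NagataOne.Min A, q.1 ≠ p := fun q hq => by
    obtain ⟨η, hη, hne⟩ := hgen
    have hηW : η ∈ W := hη.mem_open W.2 hxW
    have h1 : hW.primeIdealOf ⟨η, hηW⟩ ⤳ hW.primeIdealOf ⟨x, hxW⟩ := by
      rw [← hW.fromSpec.isOpenEmbedding.isInducing.specializes_iff, hW.fromSpec_primeIdealOf, hW.fromSpec_primeIdealOf]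
      exact hη
    have h2 := (PrimeSpectrum.le_iff_specializes _ _).2 h1
    have h2' : (hW.primeIdealOf ⟨η, hηW⟩).asIdeal ≤ p := h2
    have h3 := q.2.2 ⟨(hW.primeIdealOf ⟨η, hηW⟩).isPrime, bot_le⟩ (h2'.trans hq.ge)
    refine hne ?_
    have h4 : hW.primeIdealOf ⟨η, hηW⟩ = hW.primeIdealOf ⟨x, hxW⟩ := PrimeSpectrum.ext (le_antisymm h2' (hq.ge.trans h3))
    exact (hW.fromSpec_primeIdealOf ⟨η, hηW⟩).symm.trans ((congrArg hW.fromSpec h4).trans (hW.fromSpec_primeIdealOf ⟨x, hxW⟩))
  -- the hypotheses on the extension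
  have hinj : Function.Injective (algebraMap A B) := injective_app π U hU hπU W
  haveI : Finite (NagataOne.Min A) := NagataOne.finite_min A
  have hd : ∀ b : B, ∃ d ∈ A⁰, ∃ a : A, d • b = algebraMap A B a := fun b => by
    let J : Ideal A := (LinearMap.toSpanSingleton A _ (f b)).ker
    have hJ : ¬ (J : Set A) ⊆ ⋃ q ∈ minimalPrimes A, (q : Set A) := fun hsub => by
      obtain ⟨q, hqm, hJq⟩ := (Ideal.subset_union_prime_finite (minimalPrimes.finite_of_isNoetherianRing A) ⊥ ⊥
        (fun q hq _ _ => hq.1.1)).1 hsub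
      obtain ⟨g, hgq, hg⟩ := hkill q hqm.1.1 (hmin ⟨q, hqm⟩) (f b)
      exact hgq (hJq (LinearMap.mem_ker.2 hg))
    obtain ⟨d, hdJ, hdn⟩ := Set.not_subset.1 hJ
    refine ⟨d, (NagataOne.mem_nonZeroDivisors_iff_forall_notMem A).2 fun q hq => hdn (Set.mem_biUnion q.2 hq), ?_⟩
    obtain ⟨a, ha⟩ := hfk.le (show f (d • b) = 0 from (map_smul f d b).trans (LinearMap.mem_ker.1 hdJ))
    exact ⟨a, ha.symm⟩
  haveI : IsReduced X' := @AlgebraicGeometry.isReduced_of_isReduced_stalk X' fun y => by
    haveI := (hX' y).1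
    infer_instance
  have htf : ∀ d ∈ A⁰, ∀ b : B, d • b = 0 → b = 0 := fun d hd b hb => by
    refine (basicOpen_eq_bot_iff b).1 (le_bot_iff.1 fun z hz => ?_)
    let O₁ : X'.Opens := X'.basicOpen b ⊓ π ⁻¹ᵁ U
    obtain ⟨z₁, hz₁b, hz₁U⟩ := hU'.inter_open_nonempty _ (X'.basicOpen b).2 ⟨z, hz⟩
    have hO₁W : z₁ ∈ π ⁻¹ᵁ W := X'.basicOpen_le b hz₁b
    -- an affine neighbourhood in `U ∩ W` where `b` comes from below
    obtain ⟨g, hgU, hzg⟩ := hW.exists_basicOpen_le (V := U) ⟨π z₁, hz₁U⟩ hO₁W
    obtain ⟨a, ha⟩ := (bijective_app π U hπU hgU).2 (X'.presheaf.map (homOfLE (π.preimage_mono (X.basicOpen_le g))).op b)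
    let d₁ := resO X (X.basicOpen_le g) d
    have h1 : d₁ * a = 0 := by
      refine (bijective_app π U hπU hgU).1 ?_
      rw [map_mul, map_zero, ha]
      have h2 : (π.app (X.basicOpen g)).hom d₁ =
          X'.presheaf.map (homOfLE (π.preimage_mono (X.basicOpen_le g))).op ((π.app W).hom d) :=
        congrArg (fun φ => φ.hom d) (π.naturality (homOfLE (X.basicOpen_le g)).op)
      rw [h2, ← map_mul]
      exact (congrArg _ hb).trans (map_zero _)
    haveI := hW.isLocalization_basicOpen g
    have hd₁ : d₁ ∈ Γ(X, X.basicOpen g)⁰ := IsLocalization.map_nonZeroDivisors_le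
      (Submonoid.powers g) Γ(X, X.basicOpen g) ⟨d, hd, rfl⟩
    have h3 : a = 0 := mem_nonZeroDivisors_iff_left.1 hd₁ _ h1
    rw [h3, map_zero] at ha
    have h4 := (X'.mem_basicOpen b z₁ hO₁W).1 hz₁b
    rw [← X'.presheaf.germ_res_apply (homOfLE (π.preimage_mono (X.basicOpen_le g))) z₁ hzg b] at h4
    erw [← ha, map_zero] at h4
    exact (not_isUnit_zero h4).elim
  have hWB : IsAffineOpen (π ⁻¹ᵁ W) := hW.preimage π
  have hB : IsNormalAll B := fun q hq => by
    let z := hWB.fromSpec ⟨q, hq⟩
    have hz : z ∈ π ⁻¹ᵁ W := hWB.range_fromSpec.le ⟨⟨q, hq⟩, rfl⟩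
    have hpz : hWB.primeIdealOf ⟨z, hz⟩ = ⟨q, hq⟩ := hWB.fromSpec.isOpenEmbedding.injective (hWB.fromSpec_primeIdealOf _)
    letI := TopCat.Presheaf.algebra_section_stalk X'.presheaf (⟨z, hz⟩ : (π ⁻¹ᵁ W : X'.Opens))
    have hloc := hWB.isLocalization_stalk ⟨z, hz⟩
    simp only [hpz] at hloc
    haveI : IsLocalization.AtPrime (X'.presheaf.stalk z) q := hloc
    let e := (IsLocalization.algEquiv q.primeCompl (X'.presheaf.stalk z)
      (Localization.AtPrime q)).toRingEquiv
    haveI := (hX' z).1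
    haveI := (hX' z).2
    exact ⟨e.symm.toMulEquiv.isDomain _, IsIntegrallyClosed.of_equiv e⟩
  -- the local module
  let O := X.presheaf.stalk x
  letI : Algebra A O := TopCat.Presheaf.algebra_section_stalk X.presheaf (⟨x, hxW⟩ : W)
  haveI : IsLocalization.AtPrime O p := hW.isLocalization_stalk ⟨x, hxW⟩
  haveI : IsNoetherianRing O := IsLocalization.isNoetherianRing p.primeCompl O inferInstance
  have hunitS : ∀ s : p.primeCompl, Function.Bijective fun n : Γ(Q π, W) => (s : A) • n := fun s => by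
    have key : ∀ n : Γ(Q π, W), ∃ v : A, ∀ m ∈ Submodule.span A {n}, (v * (s : A)) • m = m := fun n => by
      let J : Ideal A := (LinearMap.toSpanSingleton A _ n).ker
      have hJ : J ⊔ Ideal.span {(s : A)} = ⊤ := by
        by_contra hne
        obtain ⟨q, hq, hle⟩ := Ideal.exists_le_maximal _ hne
        by_cases hqp : q = p
        · exact s.2 (hqp.le (hle (Submodule.mem_sup_right (Ideal.mem_span_singleton_self _))))
        · obtain ⟨g, hg, hgn⟩ := hkill q hq.isPrime hqp n
          exact hg (hle (Submodule.mem_sup_left (LinearMap.mem_ker.2 hgn)))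
      obtain ⟨j, hj, t, ht, hjt⟩ := Submodule.mem_sup.1 (hJ.ge (Submodule.mem_top (x := (1 : A))))
      obtain ⟨v, rfl⟩ := Ideal.mem_span_singleton'.1 ht
      refine ⟨v, fun m hm => ?_⟩
      obtain ⟨c, rfl⟩ := Submodule.mem_span_singleton.1 hm
      have hjn : j • n = 0 := LinearMap.mem_ker.1 hj
      calc (v * (s : A)) • c • n = c • (v * (s : A)) • n := smul_comm _ _ _
        _ = c • ((j + v * (s : A)) • n) := by rw [add_smul, hjn, zero_add]
        _ = c • n := by rw [hjt, one_smul]
    refine ⟨(injective_iff_map_eq_zero (LinearMap.lsmul A _ (s : A))).2 fun n hn => ?_, fun n => ?_⟩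
    · obtain ⟨v, hv⟩ := key n
      rw [← hv n (Submodule.mem_span_singleton_self n), mul_smul, show (s : A) • n = 0 from hn, smul_zero]
    · obtain ⟨v, hv⟩ := key n
      exact ⟨v • n, (mul_smul _ _ _).symm.trans (mul_comm v (s : A) ▸ hv n (Submodule.mem_span_singleton_self n))⟩
  haveI : IsLocalizedModule p.primeCompl (LinearMap.id : Γ(Q π, W) →ₗ[A] Γ(Q π, W)) :=
    { map_units := fun s => (Module.End.isUnit_iff _).2 (hunitS s)
      surj := fun n => ⟨⟨n, 1⟩, one_smul _ _⟩
      exists_of_eq := fun h => ⟨1, congrArg _ h⟩ }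
  let L := O ⊗[A] Γ(Q π, W)
  haveI : IsLocalizedModule p.primeCompl (TensorProduct.mk A O Γ(Q π, W) 1) :=
    (isLocalizedModule_iff_isBaseChange p.primeCompl O _).2 (TensorProduct.isBaseChange A _ O)
  let ε : Γ(Q π, W) ≃ₗ[A] L := IsLocalizedModule.linearEquiv p.primeCompl LinearMap.id (TensorProduct.mk A O Γ(Q π, W) 1)
  let fL : B →ₗ[A] L := ε.toLinearMap.comp f
  have hδ : Curv2.deltaInv O = Module.length O L := deltaInv_localization A B hinj hd htf hB p O fL
    (ε.surjective.comp hfs) (by rw [LinearEquiv.ker_comp, hfk])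
  haveI : Module.Finite A Γ(Q π, W) := Module.Finite.of_surjective f hfs
  haveI : Module.Finite O L := inferInstance
  have hlen : IsFiniteLength O L := by
    refine Module.length_ne_top_iff.1 (CycDim.isFiniteLength_of_annihilator (R := O) (M := L) fun q hq hle => ?_).ne
    by_contra hqm
    have hqp : q.comap (algebraMap A O) ≠ p := fun h => hqm (by
      rw [CycDim.eq_maximal_of_comap p inferInstance q h]
      exact IsLocalRing.maximalIdeal.isMaximal O)
    obtain ⟨t, ht⟩ := (Module.Finite.fg_top (R := A) (M := Γ(Q π, W)))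
    choose g hgq hg using hkill (q.comap (algebraMap A O)) inferInstance hqp
    have hG : (∏ n ∈ t, g n) ∉ q.comap (algebraMap A O) := fun h => by
      obtain ⟨n, -, hn⟩ := Ideal.IsPrime.prod_mem_iff.1 h
      exact hgq n hn
    refine hG (Ideal.mem_comap.2 (hle (Module.mem_annihilator.2 fun l => ?_)))
    rw [algebraMap_smul]
    obtain ⟨n, rfl⟩ := ε.surjective l
    rw [← map_smul, show (∏ n ∈ t, g n) • n = 0 by
      have hn : n ∈ Submodule.span A (t : Set Γ(Q π, W)) := ht ▸ Submodule.mem_top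
      induction hn using Submodule.span_induction with
      | mem w hw =>
        rw [← Finset.prod_erase_mul t g hw, mul_smul, hg, smul_zero]
      | zero => exact smul_zero _
      | add a b _ _ ha hb => rw [smul_add, ha, hb, add_zero]
      | smul r a _ ha => rw [smul_comm, ha, smul_zero], map_zero]
  -- the field
  letI algA : Algebra k A := (CurveRR.cst k X W).toAlgebra
  haveI : IsScalarTower k A Γ(Q π, W) := IsScalarTower.of_algebraMap_smul fun c n => rfl
  letI : Algebra k O := Curv2.stalkAlgebra k X x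
  haveI : IsScalarTower k A O := IsScalarTower.of_algebraMap_eq fun c =>
    (X.presheaf.germ_res_apply (homOfLE (le_top : W ≤ ⊤)) x hxW _).symm
  haveI : Algebra.FiniteType k A := RingHom.finiteType_algebraMap.1 (ZeroSch.finiteType_cst hW)
  haveI : Module.Finite k (IsLocalRing.ResidueField O) := by
    let ρ : A →ₐ[k] IsLocalRing.ResidueField O := (IsScalarTower.toAlgHom k O _).comp (IsScalarTower.toAlgHom k A O)
    have hρ : Function.Surjective ρ := fun r => by
      obtain ⟨o, rfl⟩ := IsLocalRing.residue_surjective r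
      obtain ⟨a, s, rfl⟩ := IsLocalization.exists_mk'_eq p.primeCompl o
      obtain ⟨v, hv⟩ := Ideal.Quotient.mk_surjective (I := p) (by
        letI := Ideal.Quotient.field p
        exact (Ideal.Quotient.mk p (s : A))⁻¹)
      letI := Ideal.Quotient.field p
      have h1 : (v * (s : A)) - 1 ∈ p := by
        rw [← Ideal.Quotient.eq, map_mul, hv, map_one]
        exact inv_mul_cancel₀ fun h => s.2 (Ideal.Quotient.eq_zero_iff_mem.1 h)
      refine ⟨a * v, ?_⟩
      show IsLocalRing.residue O (algebraMap A O (a * v)) = IsLocalRing.residue O (IsLocalization.mk' O a s)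
      refine (Ideal.Quotient.eq).2 ?_
      rw [show algebraMap A O (a * v) - IsLocalization.mk' O a s =
        IsLocalization.mk' O a s * algebraMap A O (v * (s : A) - 1) by
          rw [map_sub, map_one, map_mul, map_mul, mul_sub, mul_one, mul_left_comm (IsLocalization.mk' O a s),
            IsLocalization.mk'_spec, mul_comm]]
      exact Ideal.mul_mem_left _ _ ((IsLocalization.AtPrime.to_map_mem_maximal_iff O p _).2 h1)
    haveI : Algebra.FiniteType k (IsLocalRing.ResidueField O) := Algebra.FiniteType.of_surjective ρ hρ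
    exact finite_of_finite_type_of_isJacobsonRing k _
  let εk : Γ(Q π, W) ≃ₗ[k] L := ε.restrictScalars k
  haveI : IsScalarTower k O L := IsScalarTower.to₁₃₄ k A O L
  have hfin := finrank_eq_mul (k := k) hlen
  have hN : IsFiniteLength k L := by
    refine Module.length_ne_top_iff.1 ?_
    rw [length_eq_mul (k := k) hlen, Module.length_eq_finrank]
    exact WithTop.mul_ne_top (ENat.coe_ne_top _) (Module.length_ne_top_iff.2 hlen)
  haveI : IsNoetherian k L := (isFiniteLength_iff_isNoetherian_isArtinian.1 hN).1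
  refine ⟨Module.Finite.equiv εk.symm, ?_⟩
  rw [εk.finrank_eq, hfin, hδ]
  rfl

end Groth.Agent.DeltaNorm
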