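import Mathlib
import Groth.Agent.NagataOne.Pi
import Groth.Prelude.Def_Curv2

/-!
The `δ`-invariant of a local ring computed from a finite birational normal extension.
-/

set_option autoImplicit false
set_option linter.style.haveILetI false

universe u

open scoped TensorProduct nonZeroDivisors

noncomputable section

namespace Groth.Agent.DeltaNorm

/-- dimension over the base field of a module of finite length over a local algebra -/
theorem length_eq_mul {k R : Type u} [Field k] [CommRing R] [IsLocalRing R] [Algebra k R]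
    {M : Type u} [AddCommGroup M] [Module R M] (h : IsFiniteLength R M) :
    ∀ [Module k M] [IsScalarTower k R M],
      Module.length k M = Module.length k (IsLocalRing.ResidueField R) * Module.length R M := by
  induction h with
  | of_subsingleton => intro _ _; simp
  | @of_simple_quotient M _ _ N _ _ ih =>
    intro _ _
    obtain ⟨m, hm, ⟨e⟩⟩ := isSimpleModule_iff_quot_maximal.1 ‹IsSimpleModule R (M ⧸ N)›
    obtain rfl := IsLocalRing.eq_maximalIdeal hm
    have he : Module.length k (M ⧸ N) = Module.length k (IsLocalRing.ResidueField R) :=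
      (e.restrictScalars k).length_eq
    rw [Module.length_eq_add_of_exact N.subtype N.mkQ N.injective_subtype N.mkQ_surjective
        (LinearMap.exact_subtype_mkQ N),
      Module.length_eq_add_of_exact (N.subtype.restrictScalars k) (N.mkQ.restrictScalars k)
        N.injective_subtype N.mkQ_surjective (LinearMap.exact_subtype_mkQ N),
      he, ih, Module.length_eq_one R (M ⧸ N), mul_add, mul_one]

theorem finrank_eq_mul {k R : Type u} [Field k] [CommRing R] [IsLocalRing R] [Algebra k R]
    [Module.Finite k (IsLocalRing.ResidueField R)]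
    {M : Type u} [AddCommGroup M] [Module R M] [Module k M] [IsScalarTower k R M] (h : IsFiniteLength R M) :
    (Module.finrank k M : ℤ) = (Module.finrank k (IsLocalRing.ResidueField R) : ℤ) * ((Module.length R M).toNat : ℤ) := by
  have h1 := length_eq_mul (k := k) h
  rw [Module.length_eq_finrank k (IsLocalRing.ResidueField R)] at h1
  obtain ⟨n, hn⟩ := ENat.ne_top_iff_exists.1 (Module.length_ne_top_iff.2 h)
  rw [← hn] at h1 ⊢
  haveI : IsFiniteLength k M := Module.length_ne_top_iff.1 (by rw [h1, ← ENat.coe_mul]; exact ENat.coe_ne_top _)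
  haveI : IsNoetherian k M := (isFiniteLength_iff_isNoetherian_isArtinian.1 ‹_›).1
  haveI : Module.Finite k M := inferInstance
  rw [Module.length_eq_finrank k M, ← ENat.coe_mul, ENat.coe_inj] at h1
  rw [h1, ENat.toNat_coe]
  push_cast
  rfl

/-- an integral fraction maps into an integrally closed domain -/
theorem exists_quotient' (L : Type u) {A R K : Type u} [CommRing A] [CommRing R] [IsDomain R] [IsIntegrallyClosed R]
    [CommRing K] [Algebra A K] [IsFractionRing A K] [Field L] [Algebra R L] [IsFractionRing R L] (φ : A →+* R) (hφ : ∀ y : A⁰, φ y ≠ 0)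
    {z : K} (hz : IsIntegral A z) {r : A} {s : A⁰} (hrs : z * algebraMap A K s = algebraMap A K r) :
    ∃ w : R, φ r = w * φ s := by
  have hu : ∀ y : A⁰, IsUnit ((algebraMap R L).comp φ y) := fun y =>
    isUnit_iff_ne_zero.2 fun h => hφ y (IsFractionRing.injective R L (h.trans (map_zero _).symm))
  obtain ⟨Φ, hΦ⟩ : ∃ Φ : K →+* L, Φ.comp (algebraMap A K) = (algebraMap R L).comp φ :=
    ⟨IsLocalization.lift hu, IsLocalization.lift_comp hu⟩
  obtain ⟨P, hPm, hP⟩ := hz
  have hint : IsIntegral R (Φ z) := by
    refine ⟨P.map φ, hPm.map φ, ?_⟩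
    rw [Polynomial.eval₂_map, ← hΦ, ← Polynomial.hom_eval₂, hP, map_zero]
  obtain ⟨w, hw⟩ := IsIntegrallyClosed.isIntegral_iff.1 hint
  refine ⟨w, IsFractionRing.injective R L ?_⟩
  rw [map_mul, hw]
  have := congrArg Φ hrs
  rw [map_mul, ← RingHom.comp_apply, ← RingHom.comp_apply Φ, hΦ] at this
  exact this.symm

theorem exists_quotient {A R K : Type u} [CommRing A] [CommRing R] [IsDomain R] [IsIntegrallyClosed R]
    [CommRing K] [Algebra A K] [IsFractionRing A K] (φ : A →+* R) (hφ : ∀ y : A⁰, φ y ≠ 0)
    {z : K} (hz : IsIntegral A z) {r : A} {s : A⁰} (hrs : z * algebraMap A K s = algebraMap A K r) :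
    ∃ w : R, φ r = w * φ s :=
  exists_quotient' (FractionRing R) φ hφ hz hrs

section Birational

variable (A B : Type u) [CommRing A] [CommRing B] [Algebra A B]

/-- normal ring: every localisation at a prime is an integrally closed domain -/
def IsNormalAll : Prop :=
  ∀ q : Ideal B, ∀ _ : q.IsPrime, IsDomain (Localization.AtPrime q) ∧ IsIntegrallyClosed (Localization.AtPrime q)

/-- a finite birational normal extension is the integral closure in the total ring of fractions -/
theorem nonempty_equiv_integralClosure (K : Type u) [CommRing K] [Algebra A K] [IsFractionRing A K]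
    [Module.Finite A B] (hinj : Function.Injective (algebraMap A B))
    (hd : ∀ b : B, ∃ d ∈ A⁰, ∃ a : A, d • b = algebraMap A B a)
    (htf : ∀ d ∈ A⁰, ∀ b : B, d • b = 0 → b = 0) (hB : IsNormalAll B) :
    Nonempty (B ≃ₐ[A] integralClosure A K) := by
  classical
  choose d hd a ha using hd
  let f₀ : B → K := fun b => IsLocalization.mk' K (a b) (⟨d b, hd b⟩ : A⁰)
  -- characterisation
  have key : ∀ (b : B) (s : A⁰) (r : A), (s : A) • b = algebraMap A B r → f₀ b = IsLocalization.mk' K r s := by
    intro b s r hr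
    refine IsLocalization.mk'_eq_of_eq (hinj ?_)
    refine Eq.symm ?_
    show algebraMap A B ((s : A) * a b) = algebraMap A B (d b * r)
    rw [map_mul, map_mul, ← ha b, ← hr, Algebra.smul_def, Algebra.smul_def]
    ring
  have hmul : ∀ b c, f₀ (b * c) = f₀ b * f₀ c := fun b c => by
    rw [← IsLocalization.mk'_mul]
    refine key _ _ _ ?_
    rw [map_mul, ← ha b, ← ha c, Submonoid.coe_mul]
    simp only [Algebra.smul_def, map_mul]
    ring
  have hadd : ∀ b c, f₀ (b + c) = f₀ b + f₀ c := fun b c => by
    rw [← IsLocalization.mk'_add]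
    refine key _ _ _ ?_
    rw [map_add, map_mul, map_mul, ← ha b, ← ha c, Submonoid.coe_mul]
    simp only [Algebra.smul_def, map_mul]
    ring
  have halg : ∀ r : A, f₀ (algebraMap A B r) = algebraMap A K r := fun r => by
    rw [key _ 1 r (by simp), IsLocalization.mk'_one]
  let f : B →ₐ[A] K :=
    { toFun := f₀
      map_one' := by rw [← map_one (algebraMap A B), halg, map_one]
      map_mul' := hmul
      map_zero' := by rw [← map_zero (algebraMap A B), halg, map_zero]
      map_add' := hadd
      commutes' := halg }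
  have hfinj : Function.Injective f := by
    refine (injective_iff_map_eq_zero f).2 fun b hb => htf _ (hd b) b ?_
    have h1 : algebraMap A K (a b) = 0 := by
      rw [← IsLocalization.mk'_spec K (a b) (⟨d b, hd b⟩ : A⁰), show IsLocalization.mk' K (a b) (⟨d b, hd b⟩ : A⁰) = 0 from hb,
        zero_mul]
    rw [ha b, IsLocalization.injective K le_rfl (h1.trans (map_zero _).symm), map_zero]
  haveI : Algebra.IsIntegral A B := Algebra.IsIntegral.of_finite A B
  let g : B →ₐ[A] integralClosure A K := f.codRestrict _ fun b => (Algebra.IsIntegral.isIntegral (R := A) b).map f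
  refine ⟨AlgEquiv.ofBijective g ⟨fun x y h => hfinj (congrArg Subtype.val h), fun z => ?_⟩⟩
  suffices hz : ∃ b, f b = z.1 by
    obtain ⟨b, hb⟩ := hz
    exact ⟨b, Subtype.ext hb⟩
  obtain ⟨⟨r, s⟩, hrs⟩ := IsLocalization.surj A⁰ z.1
  -- the denominators of `z` in `B`
  let I : Ideal B :=
    { carrier := {c | ∃ b, algebraMap A B r * c = algebraMap A B s * b}
      add_mem' := fun {c c'} ⟨b, hb⟩ ⟨b', hb'⟩ => ⟨b + b', by rw [mul_add, mul_add, hb, hb']⟩
      zero_mem' := ⟨0, by simp⟩
      smul_mem' := fun t c ⟨b, hb⟩ => ⟨t * b, by rw [smul_eq_mul, mul_left_comm, hb, mul_left_comm]⟩ }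
  have hI : I = ⊤ := by
    by_contra hI
    obtain ⟨q, hq, hIq⟩ := Ideal.exists_le_maximal I hI
    obtain ⟨hdom, hic⟩ := hB q hq.isPrime
    have hs0 : ∀ y : A⁰, (algebraMap B (Localization.AtPrime q)).comp (algebraMap A B) y ≠ 0 := fun y h => by
      obtain ⟨⟨c, hc⟩, hc'⟩ := (IsLocalization.map_eq_zero_iff q.primeCompl (Localization.AtPrime q) _).1 h
      refine hc ?_
      rw [htf _ y.2 c (by rw [Algebra.smul_def, mul_comm]; exact hc')]
      exact zero_mem _
    haveI := hdom
    haveI := hic
    obtain ⟨w, h2⟩ := exists_quotient ((algebraMap B (Localization.AtPrime q)).comp (algebraMap A B)) hs0 z.2 hrs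
    obtain ⟨⟨b, c⟩, hbc⟩ := IsLocalization.surj q.primeCompl w
    have h3 : algebraMap B (Localization.AtPrime q) (algebraMap A B r * c) = algebraMap B (Localization.AtPrime q) (b * algebraMap A B s) := by
      rw [map_mul, map_mul, ← hbc]
      rw [RingHom.comp_apply, RingHom.comp_apply] at h2
      rw [h2]
      ring
    obtain ⟨e, he⟩ := (IsLocalization.eq_iff_exists q.primeCompl (Localization.AtPrime q)).1 h3
    have hmem : (e : B) * c ∈ I := ⟨e * b, by
      calc algebraMap A B r * ((e : B) * c) = e * (algebraMap A B r * c) := by ring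
        _ = e * (b * algebraMap A B s) := he
        _ = _ := by ring⟩
    exact (q.primeCompl.mul_mem e.2 c.2) (hIq hmem)
  obtain ⟨b, hb⟩ : (1 : B) ∈ I := hI ▸ Submodule.mem_top
  refine ⟨b, ?_⟩
  rw [mul_one] at hb
  show f₀ b = z.1
  rw [key b s r (by rw [Algebra.smul_def, ← hb])]
  exact (IsLocalization.eq_mk'_iff_mul_eq.2 hrs).symm

theorem deltaInv_eq [Module.Finite A B] (hinj : Function.Injective (algebraMap A B))
    (hd : ∀ b : B, ∃ d ∈ A⁰, ∃ a : A, d • b = algebraMap A B a)
    (htf : ∀ d ∈ A⁰, ∀ b : B, d • b = 0 → b = 0) (hB : IsNormalAll B) :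
    Curv2.deltaInv A = Module.length A (B ⧸ LinearMap.range (Algebra.linearMap A B)) := by
  obtain ⟨e⟩ := nonempty_equiv_integralClosure A B (FractionRing A) hinj hd htf hB
  refine (Submodule.Quotient.equiv _ _ e.toLinearEquiv ?_).length_eq.symm
  rw [← LinearMap.range_comp]
  exact congrArg LinearMap.range (LinearMap.ext fun r => e.commutes r)

/-- the `δ`-invariant of a local ring of `A` -/
theorem deltaInv_localization [Module.Finite A B] (hinj : Function.Injective (algebraMap A B))
    (hd : ∀ b : B, ∃ d ∈ A⁰, ∃ a : A, d • b = algebraMap A B a)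
    (htf : ∀ d ∈ A⁰, ∀ b : B, d • b = 0 → b = 0) (hB : IsNormalAll B)
    (p : Ideal A) [p.IsPrime] (O : Type u) [CommRing O] [Algebra A O] [IsLocalization.AtPrime O p]
    {M : Type u} [AddCommGroup M] [Module A M] [Module O M] [IsScalarTower A O M] (f : B →ₗ[A] M)
    (hf : Function.Surjective f) (hk : LinearMap.ker f = LinearMap.range (Algebra.linearMap A B)) :
    Curv2.deltaInv O = Module.length O M := by
  classical
  let S := p.primeCompl
  let B' := Localization (Algebra.algebraMapSubmonoid B S)
  letI : Algebra O B' := localizationAlgebra S B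
  haveI : IsScalarTower A O B' := isScalarTower_localizationAlgebra S B
  haveI : Module.Finite O B' := Module.Finite.of_isLocalization A B S
  haveI : IsLocalizedModule S (IsScalarTower.toAlgHom A B B').toLinearMap :=
    isLocalizedModule_iff_isLocalization.2 inferInstance
  let g := (IsScalarTower.toAlgHom A B B').toLinearMap
  have hg0 : ∀ b : B, g b = 0 → ∃ t : S, (t : A) • b = 0 := fun b hb =>
    (IsLocalizedModule.eq_zero_iff S g).1 hb
  have hgalg : ∀ r : A, g (algebraMap A B r) = algebraMap O B' (algebraMap A O r) := fun r => by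
    show algebraMap B B' (algebraMap A B r) = _
    rw [← IsScalarTower.algebraMap_apply, ← IsScalarTower.algebraMap_apply]
  have hinj' : Function.Injective (algebraMap O B') :=
    localizationAlgebra_injective (M := S) O B' hinj
  have hunit : ∀ t : S, IsUnit (algebraMap A O t) := fun t => IsLocalization.map_units O t
  have hnzd : ∀ d ∈ A⁰, algebraMap A O d ∈ O⁰ := fun d hd' => by
    refine mem_nonZeroDivisors_iff_right.2 fun x hx => ?_
    obtain ⟨r, t, rfl⟩ := IsLocalization.exists_mk'_eq S x
    rw [← IsLocalization.mk'_one (M := S) O d, ← IsLocalization.mk'_mul, IsLocalization.mk'_eq_zero_iff] at hx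
    obtain ⟨u, hu⟩ := hx
    rw [← mul_assoc] at hu
    exact (IsLocalization.mk'_eq_zero_iff r t).2 ⟨u, mem_nonZeroDivisors_iff_right.1 hd' _ hu⟩
  have hd' : ∀ b : B', ∃ d ∈ O⁰, ∃ a : O, d • b = algebraMap O B' a := fun b => by
    obtain ⟨⟨c, t⟩, hct⟩ := IsLocalizedModule.surj S g b
    obtain ⟨d, hd1, a, ha⟩ := hd c
    obtain ⟨v, hv⟩ := hunit t
    refine ⟨algebraMap A O d, hnzd d hd1, ↑v⁻¹ * algebraMap A O a, ?_⟩
    rw [map_mul, ← hgalg, ← ha, map_smul, ← hct, Submonoid.smul_def, algebraMap_smul, smul_comm,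
      ← algebraMap_smul O (t : A), ← hv, ← Algebra.smul_def, smul_smul (↑v⁻¹ : O), Units.inv_mul,
      one_smul]
  have htf' : ∀ x ∈ O⁰, ∀ b : B', x • b = 0 → b = 0 := fun x hx b hb => by
    obtain ⟨⟨c, t⟩, hct⟩ := IsLocalizedModule.surj S g b
    obtain ⟨d, hd1, a, ha⟩ := hd c
    have h1 : x * algebraMap A O a = 0 := by
      refine hinj' ?_
      rw [map_mul, map_zero, ← hgalg, ← ha, map_smul, ← hct, Submonoid.smul_def, smul_comm d (t : A),
        ← Algebra.smul_def, smul_comm x (t : A), smul_comm x d, hb, smul_zero, smul_zero]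
    have h2 : g (d • c) = 0 := by
      rw [ha, hgalg, mem_nonZeroDivisors_iff_left.1 hx _ h1, map_zero]
    obtain ⟨u, hu⟩ := hg0 _ h2
    rw [smul_comm] at hu
    have h3 := htf d hd1 _ hu
    have h4 : g c = 0 := (IsLocalizedModule.eq_zero_iff S g).2 ⟨u, h3⟩
    rw [h4, Submonoid.smul_def] at hct
    exact IsLocalizedModule.smul_injective g t (by
      show (t : A) • b = (t : A) • 0
      rw [hct, smul_zero])
  have hB' : IsNormalAll B' := fun q hq => by
    haveI := IsLocalization.isLocalization_isLocalization_atPrime_isLocalization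
      (Algebra.algebraMapSubmonoid B S) (Localization.AtPrime q) q
    obtain ⟨h1, h2⟩ := hB (q.comap (algebraMap B B')) inferInstance
    let e := (IsLocalization.algEquiv (q.comap (algebraMap B B')).primeCompl
      (Localization.AtPrime (q.comap (algebraMap B B'))) (Localization.AtPrime q)).toRingEquiv
    haveI := h1
    haveI := h2
    exact ⟨e.symm.toMulEquiv.isDomain _, IsIntegrallyClosed.of_equiv e⟩
  rw [deltaInv_eq O B' hinj' hd' htf' hB']
  -- identify the quotient with `M`
  let f₁ : B' →ₗ[A] M := IsLocalizedModule.lift S g f fun t => by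
    refine (Module.End.isUnit_iff _).2 ?_
    obtain ⟨v, hv⟩ := hunit t
    refine ⟨fun a b hab => ?_, fun b => ⟨(↑v⁻¹ : O) • b, ?_⟩⟩
    · replace hab : (t : A) • a = (t : A) • b := hab
      rw [← algebraMap_smul O (t : A) a, ← algebraMap_smul O (t : A) b, ← hv] at hab
      have := congrArg ((↑v⁻¹ : O) • ·) hab
      simpa only [smul_smul, Units.inv_mul, one_smul] using this
    · show (t : A) • ((↑v⁻¹ : O) • b) = b
      rw [← algebraMap_smul O (t : A), smul_smul, ← hv, Units.mul_inv, one_smul]
  have hf₁ : ∀ b, f₁ (g b) = f b := fun b => IsLocalizedModule.lift_apply S g f _ b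
  let f₂ : B' →ₗ[O] M := f₁.extendScalarsOfIsLocalization S O
  have hsurj : Function.Surjective f₂ := fun m => by
    obtain ⟨b, rfl⟩ := hf m
    exact ⟨g b, hf₁ b⟩
  have hker : LinearMap.ker f₂ = LinearMap.range (Algebra.linearMap O B') := by
    refine le_antisymm (fun b hb => ?_) ?_
    · obtain ⟨⟨c, t⟩, hct⟩ := IsLocalizedModule.surj S g b
      have h1 : f c = 0 := by
        rw [← hf₁, ← hct, Submonoid.smul_def, map_smul, show f₁ b = 0 from hb, smul_zero]
      obtain ⟨a, ha⟩ := (hk.le h1 : c ∈ LinearMap.range (Algebra.linearMap A B))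
      obtain ⟨v, hv⟩ := hunit t
      refine ⟨↑v⁻¹ * algebraMap A O a, ?_⟩
      show algebraMap O B' _ = b
      rw [map_mul, ← hgalg, show algebraMap A B a = c from ha, ← hct, ← Algebra.smul_def, Submonoid.smul_def,
        ← algebraMap_smul O (t : A), smul_smul, ← hv, Units.inv_mul, one_smul]
    · rintro _ ⟨x, rfl⟩
      have h1 : f₂ 1 = 0 := by
        have h2 := hf₁ (algebraMap A B 1)
        rw [hgalg, map_one, map_one] at h2
        exact h2.trans (LinearMap.mem_ker.1 (hk.ge ⟨1, rfl⟩))
      rw [LinearMap.mem_ker, show Algebra.linearMap O B' x = x • 1 from Algebra.algebraMap_eq_smul_one x, map_smul,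
        h1, smul_zero]
  exact ((Submodule.quotEquivOfEq _ _ hker.symm).trans (LinearMap.quotKerEquivOfSurjective f₂ hsurj)).length_eq

end Birational

end Groth.Agent.DeltaNorm
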