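import Groth.Agent.DeltaNorm.Alg
import Groth.Agent.NagataOne.Dim
import Groth.Agent.S16431
import Groth.Prelude.Def_Brnch

/-!
The coordinate axes in affine `n`-space: `δ = n - 1` and `n` branches.
-/

set_option autoImplicit false
set_option linter.style.haveILetI false
set_option maxHeartbeats 1000000

universe u

open IsLocalRing
open scoped nonZeroDivisors

noncomputable section

namespace Groth.Agent.DeltaNorm

variable (K : Type u) [Field K] (n : ℕ)

/-- the ideal of the coordinate axes -/
def axesIdeal : Ideal (MvPowerSeries (Fin n) K) :=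
  Ideal.span {f : MvPowerSeries (Fin n) K | ∃ i j : Fin n, i ≠ j ∧ f = MvPowerSeries.X i * MvPowerSeries.X j}

/-- restriction to the axes -/
def toAxes : MvPowerSeries (Fin n) K →+* (Fin n → PowerSeries K) where
  toFun f i := PowerSeries.mk fun m => MvPowerSeries.coeff (Finsupp.single i m) f
  map_zero' := funext fun i => PowerSeries.ext fun m => by
    rw [PowerSeries.coeff_mk, map_zero]; simp
  map_one' := funext fun i => PowerSeries.ext fun m => by
    classical
    rw [PowerSeries.coeff_mk, MvPowerSeries.coeff_one, Pi.one_apply, PowerSeries.coeff_one]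
    simp
  map_add' f g := funext fun i => PowerSeries.ext fun m => by
    rw [PowerSeries.coeff_mk, map_add, Pi.add_apply, map_add, PowerSeries.coeff_mk, PowerSeries.coeff_mk]
  map_mul' f g := funext fun i => PowerSeries.ext fun m => by
    classical
    rw [PowerSeries.coeff_mk, MvPowerSeries.coeff_mul, Pi.mul_apply, PowerSeries.coeff_mul,
      Finsupp.antidiagonal_single, Finset.sum_map]
    exact Finset.sum_congr rfl fun p _ => by rw [PowerSeries.coeff_mk, PowerSeries.coeff_mk]; rfl

theorem coeff_toAxes (f : MvPowerSeries (Fin n) K) (i : Fin n) (m : ℕ) :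
    PowerSeries.coeff m (toAxes K n f i) = MvPowerSeries.coeff (Finsupp.single i m) f :=
  by rw [show toAxes K n f i = PowerSeries.mk fun m => MvPowerSeries.coeff (Finsupp.single i m) f from rfl,
    PowerSeries.coeff_mk]

theorem toAxes_eq_zero_iff (hn : 1 ≤ n) (f : MvPowerSeries (Fin n) K) : toAxes K n f = 0 ↔ f ∈ axesIdeal K n := by
  classical
  constructor
  · intro hf
    -- monomials involving two variables
    have h1 : ∀ (i : Fin n) (m : ℕ), MvPowerSeries.coeff (Finsupp.single i m) f = 0 := fun i m => by
      rw [← coeff_toAxes, hf, Pi.zero_apply, map_zero]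
    let good : (Fin n →₀ ℕ) → Fin n × Fin n → Prop := fun m p =>
      p.1 < p.2 ∧ m p.1 ≠ 0 ∧ m p.2 ≠ 0
    have hgood : ∀ m, MvPowerSeries.coeff m f ≠ 0 → ∃ p, good m p := fun m hm => by
      by_contra! hno
      by_cases h0 : m = 0
      · subst h0
        refine hm ?_
        have := h1 ⟨0, hn⟩ 0
        rwa [Finsupp.single_zero] at this
      · obtain ⟨i, hi⟩ : ∃ i, m i ≠ 0 := by
          by_contra! h
          exact h0 (Finsupp.ext h)
        refine hm ?_
        have hs : m = Finsupp.single i (m i) := Finsupp.ext fun j => by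
          rcases eq_or_ne i j with rfl | hij
          · rw [Finsupp.single_eq_same]
          · rw [Finsupp.single_eq_of_ne hij.symm]
            by_contra hj
            rcases lt_or_gt_of_ne hij with h | h
            · exact hno (i, j) ⟨h, hi, hj⟩
            · exact hno (j, i) ⟨h, hj, hi⟩
        rw [hs]
        exact h1 _ _
    let sel : (Fin n →₀ ℕ) → Option (Fin n × Fin n) := fun m =>
      if h : ∃ p, good m p then some h.choose else none
    let g : Fin n × Fin n → MvPowerSeries (Fin n) K := fun p m =>
      if sel (m + Finsupp.single p.1 1 + Finsupp.single p.2 1) = some p then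
        MvPowerSeries.coeff (m + Finsupp.single p.1 1 + Finsupp.single p.2 1) f else 0
    have hterm : ∀ (p : Fin n × Fin n) (m : Fin n →₀ ℕ),
        MvPowerSeries.coeff m (MvPowerSeries.X p.1 * MvPowerSeries.X p.2 * g p) =
          if sel m = some p then MvPowerSeries.coeff m f else 0 := fun p m => by
      rw [MvPowerSeries.X_def, MvPowerSeries.X_def, MvPowerSeries.monomial_mul_monomial, one_mul,
        MvPowerSeries.coeff_monomial_mul]
      by_cases hle : Finsupp.single p.1 1 + Finsupp.single p.2 1 ≤ m
      · rw [if_pos hle, one_mul]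
        show (if sel (m - (Finsupp.single p.1 1 + Finsupp.single p.2 1) + Finsupp.single p.1 1 + Finsupp.single p.2 1) = some p then
          MvPowerSeries.coeff (m - (Finsupp.single p.1 1 + Finsupp.single p.2 1) + Finsupp.single p.1 1 + Finsupp.single p.2 1) f else 0) = _
        rw [add_assoc, tsub_add_cancel_of_le hle]
      · rw [if_neg hle, if_neg fun hsel => hle ?_]
        have hp : ∃ q, good m q := by
          by_contra hq
          rw [show sel m = none from dif_neg hq] at hsel
          cases hsel
        rw [show sel m = some hp.choose from dif_pos hp, Option.some.injEq] at hsel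
        obtain ⟨hlt, ha, hb⟩ := hsel ▸ hp.choose_spec
        intro i
        rw [Finsupp.add_apply]
        rcases eq_or_ne p.1 i with rfl | h1i
        · rw [Finsupp.single_eq_same, Finsupp.single_eq_of_ne hlt.ne]
          omega
        · rw [Finsupp.single_eq_of_ne h1i.symm]
          rcases eq_or_ne p.2 i with rfl | h2i
          · rw [Finsupp.single_eq_same]
            omega
          · rw [Finsupp.single_eq_of_ne h2i.symm]
            omega
    have hf' : f = ∑ p ∈ (Finset.univ.filter fun p : Fin n × Fin n => p.1 < p.2),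
        MvPowerSeries.X p.1 * MvPowerSeries.X p.2 * g p := MvPowerSeries.ext fun m => by
      rw [map_sum]
      simp only [hterm]
      by_cases hm : MvPowerSeries.coeff m f = 0
      · rw [hm]
        exact (Finset.sum_eq_zero fun p _ => by split_ifs <;> rfl).symm
      · have hp := hgood m hm
        rw [Finset.sum_eq_single hp.choose]
        · rw [if_pos (dif_pos hp : sel m = some hp.choose)]
        · intro q _ hq
          rw [if_neg]
          rw [show sel m = some hp.choose from dif_pos hp, Option.some.injEq]
          exact hq.symm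
        · intro h
          exact (h (Finset.mem_filter.2 ⟨Finset.mem_univ _, hp.choose_spec.1⟩)).elim
    rw [hf']
    refine Ideal.sum_mem _ fun p hp => Ideal.mul_mem_right _ _ (Ideal.subset_span ⟨p.1, p.2, ?_, rfl⟩)
    exact (Finset.mem_filter.1 hp).2.ne
  · intro hf
    refine RingHom.mem_ker.1 ((Ideal.span_le.2 ?_ : axesIdeal K n ≤ RingHom.ker (toAxes K n)) hf)
    rintro _ ⟨i, j, hij, rfl⟩
    refine RingHom.mem_ker.2 (funext fun l => PowerSeries.ext fun m => ?_)
    rw [coeff_toAxes, Pi.zero_apply, map_zero, MvPowerSeries.X_def, MvPowerSeries.X_def,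
      MvPowerSeries.monomial_mul_monomial, MvPowerSeries.coeff_monomial, if_neg]
    intro h
    rcases eq_or_ne l i with rfl | hli
    · have := DFunLike.congr_fun h j
      rw [Finsupp.single_eq_of_ne hij.symm, Finsupp.add_apply, Finsupp.single_eq_of_ne hij.symm,
        Finsupp.single_eq_same] at this
      omega
    · have := DFunLike.congr_fun h i
      rw [Finsupp.single_eq_of_ne hli.symm, Finsupp.add_apply, Finsupp.single_eq_same] at this
      omega

theorem range_toAxes :
    Set.range (toAxes K n) =
      {f : Fin n → PowerSeries K | ∀ i j, PowerSeries.constantCoeff (f i) = PowerSeries.constantCoeff (f j)} := by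
  classical
  ext g
  constructor
  · rintro ⟨f, rfl⟩ i j
    rw [← PowerSeries.coeff_zero_eq_constantCoeff_apply, ← PowerSeries.coeff_zero_eq_constantCoeff_apply,
      coeff_toAxes, coeff_toAxes, Finsupp.single_zero, Finsupp.single_zero]
  · intro hg
    let f : MvPowerSeries (Fin n) K := fun m =>
      if h : ∃ (i : Fin n) (l : ℕ), m = Finsupp.single i l then
        PowerSeries.coeff h.choose_spec.choose (g h.choose) else 0
    refine ⟨f, funext fun i => PowerSeries.ext fun l => ?_⟩
    rw [coeff_toAxes]
    have h : ∃ (i' : Fin n) (l' : ℕ), Finsupp.single i l = Finsupp.single i' l' := ⟨i, l, rfl⟩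
    show (if h : ∃ (i' : Fin n) (l' : ℕ), Finsupp.single i l = Finsupp.single i' l' then
        PowerSeries.coeff h.choose_spec.choose (g h.choose) else 0) = _
    rw [dif_pos h]
    have key : ∀ (i' : Fin n) (l' : ℕ), Finsupp.single i l = Finsupp.single i' l' →
        PowerSeries.coeff l' (g i') = PowerSeries.coeff l (g i) := fun i' l' hh => by
      rcases Finsupp.single_eq_single_iff _ _ _ _ |>.1 hh with ⟨rfl, rfl⟩ | ⟨rfl, rfl⟩
      · rfl
      · rw [PowerSeries.coeff_zero_eq_constantCoeff_apply, PowerSeries.coeff_zero_eq_constantCoeff_apply]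
        exact hg _ _
    exact key _ _ h.choose_spec.choose_spec

/-- the axes ring as a subring of a product of power series rings -/
theorem exists_embedding {R : Type u} [CommRing R] (hn : 1 ≤ n)
    (e : R ≃+* MvPowerSeries (Fin n) K ⧸ axesIdeal K n) :
    ∃ φ : R →+* (Fin n → PowerSeries K), Function.Injective φ ∧ Set.range φ =
      {f : Fin n → PowerSeries K | ∀ i j, PowerSeries.constantCoeff (f i) = PowerSeries.constantCoeff (f j)} := by
  let ψ := Ideal.Quotient.lift (axesIdeal K n) (toAxes K n) fun a ha => (toAxes_eq_zero_iff K n hn a).2 ha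
  refine ⟨ψ.comp e.toRingHom, (?_ : Function.Injective ψ).comp e.injective, ?_⟩
  · rw [injective_iff_map_eq_zero]
    intro q hq
    obtain ⟨a, rfl⟩ := Ideal.Quotient.mk_surjective q
    exact Ideal.Quotient.eq_zero_iff_mem.2 ((toAxes_eq_zero_iff K n hn a).1 hq)
  · rw [RingHom.coe_comp, Set.range_comp, show Set.range e.toRingHom = Set.univ from e.surjective.range_eq,
      Set.image_univ, ← range_toAxes]
    ext g
    exact ⟨fun ⟨q, hq⟩ => by obtain ⟨a, rfl⟩ := Ideal.Quotient.mk_surjective q; exact ⟨a, hq⟩,
      fun ⟨a, ha⟩ => ⟨Ideal.Quotient.mk _ a, ha⟩⟩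

variable {K n}

/-- localisations of a product of discrete valuation rings are normal domains -/
theorem isNormalAll_pi {ι : Type} [Finite ι] (D : ι → Type u) [∀ i, CommRing (D i)] [∀ i, IsDomain (D i)]
    [∀ i, IsIntegrallyClosed (D i)] : IsNormalAll (∀ i, D i) := by
  classical
  intro P hP
  obtain ⟨j, q, hq⟩ := PrimeSpectrum.exists_comap_evalRingHom_eq (⟨P, hP⟩ : PrimeSpectrum (∀ i, D i))
  have hmem : ∀ z : ∀ i, D i, z j ∈ q.asIdeal ↔ z ∈ P := fun z =>
    (SetLike.ext_iff.1 (congrArg PrimeSpectrum.asIdeal hq) z)
  letI : Algebra (∀ i, D i) (Localization.AtPrime q.asIdeal) :=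
    ((algebraMap (D j) (Localization.AtPrime q.asIdeal)).comp (Pi.evalRingHom D j)).toAlgebra
  haveI : IsLocalization P.primeCompl (Localization.AtPrime q.asIdeal) := by
    refine ⟨fun y => IsLocalization.map_units (Localization.AtPrime q.asIdeal)
      (⟨y.1 j, fun h => y.2 ((hmem _).1 h)⟩ : q.asIdeal.primeCompl), fun w => ?_, fun {a b} h => ?_⟩
    · obtain ⟨⟨x, s⟩, h⟩ := IsLocalization.surj q.asIdeal.primeCompl w
      refine ⟨⟨Pi.single j x, ⟨Pi.single j s.1, fun hm => s.2 ?_⟩⟩, ?_⟩
      · have := (hmem _).2 hm
        rwa [Pi.single_eq_same] at this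
      · show w * algebraMap (D j) _ (Pi.single j s.1 j) = algebraMap (D j) _ (Pi.single j x j)
        rw [Pi.single_eq_same, Pi.single_eq_same]
        exact h
    · obtain ⟨⟨c, hc⟩, hcab⟩ := (IsLocalization.eq_iff_exists q.asIdeal.primeCompl (Localization.AtPrime q.asIdeal)).mp h
      refine ⟨⟨Pi.single j c, fun hm => hc ?_⟩, funext fun i => ?_⟩
      · have := (hmem _).2 hm
        rwa [Pi.single_eq_same] at this
      · rcases eq_or_ne j i with rfl | hi
        · show Pi.single j c j * a j = Pi.single j c j * b j
          rw [Pi.single_eq_same]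
          exact hcab
        · show Pi.single j c i * a i = Pi.single j c i * b i
          rw [Pi.single_eq_of_ne hi.symm, zero_mul, zero_mul]
  let E := (IsLocalization.algEquiv P.primeCompl (Localization.AtPrime P) (Localization.AtPrime q.asIdeal)).toRingEquiv
  have hle := Ideal.primeCompl_le_nonZeroDivisors q.asIdeal
  haveI : IsDomain (Localization.AtPrime q.asIdeal) := IsLocalization.isDomain_localization hle
  haveI := isIntegrallyClosed_of_isLocalization (Localization.AtPrime q.asIdeal) q.asIdeal.primeCompl hle
  exact ⟨E.toMulEquiv.isDomain _, IsIntegrallyClosed.of_equiv E.symm⟩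

/-- `δ` and branches of a ring of axes -/
theorem delta_branches_axes {R : Type u} [CommRing R] [IsLocalRing R] (hn : 1 ≤ n) (φ : R →+* (Fin n → PowerSeries K))
    (hinj : Function.Injective φ) (hr : Set.range φ =
      {f : Fin n → PowerSeries K | ∀ i j, PowerSeries.constantCoeff (f i) = PowerSeries.constantCoeff (f j)}) :
    Curv2.deltaInv R + 1 = n ∧ Brnch.numBranches R = n := by
  classical
  let P := Fin n → PowerSeries K
  letI : Algebra R P := φ.toAlgebra
  have hrng : ∀ f : P, (∀ i j, PowerSeries.constantCoeff (f i) = PowerSeries.constantCoeff (f j)) → ∃ r, φ r = f :=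
    fun f hf => hr.ge hf
  let c : P → Fin n → K := fun f i => PowerSeries.constantCoeff (f i)
  have hm : ∀ f : P, (∀ i, c f i = 0) → ∃ r, φ r = f := fun f hf => hrng f fun i j => (hf i).trans (hf j).symm
  obtain ⟨T, hT⟩ := hm (fun _ => PowerSeries.X) fun i => PowerSeries.constantCoeff_X
  have hTnz : ∀ i, φ T i ≠ 0 := fun i => by rw [hT]; exact PowerSeries.X_ne_zero
  have hTd : T ∈ R⁰ := mem_nonZeroDivisors_iff_right.2 fun r h => hinj (funext fun i => by
    have := congrFun (congrArg φ h) i
    rw [map_mul, map_zero, Pi.mul_apply, Pi.zero_apply] at this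
    rw [map_zero, Pi.zero_apply]
    exact (mul_eq_zero.1 this).resolve_right (hTnz i))
  have hbT : ∀ b : P, ∃ r, φ r = φ T * b := fun b => hm _ fun i => by
    show PowerSeries.constantCoeff (φ T i * b i) = 0
    rw [hT, map_mul, PowerSeries.constantCoeff_X, zero_mul]
  have hd : ∀ b : P, ∃ d ∈ R⁰, ∃ a : R, d • b = algebraMap R P a := fun b => by
    obtain ⟨r, hr'⟩ := hbT b
    exact ⟨T, hTd, r, hr'.symm⟩
  have htf : ∀ d ∈ R⁰, ∀ b : P, d • b = 0 → b = 0 := fun d hd b hb => funext fun i => by
    obtain ⟨r, hr'⟩ := hbT b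
    have h1 : φ (r * d) = φ 0 := by
      rw [map_mul, hr', map_zero, mul_assoc, mul_comm b (φ d), show φ d * b = 0 from hb, mul_zero]
    have h2 := (mem_nonZeroDivisors_iff_right.1 hd r (hinj h1))
    rw [h2, map_zero] at hr'
    have := congrFun hr'.symm i
    rw [Pi.mul_apply, Pi.zero_apply] at this
    exact (mul_eq_zero.1 this).resolve_left (hTnz i)
  haveI : Module.Finite R P := by
    refine ⟨⟨Finset.univ.image fun i : Fin n => (Pi.single i 1 : P), eq_top_iff.2 fun b _ => ?_⟩⟩
    have he : ∀ i, (Pi.single i 1 : P) ∈ Submodule.span R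
        ((Finset.univ.image fun i : Fin n => (Pi.single i 1 : P) : Finset P) : Set P) := fun i =>
      Submodule.subset_span (Finset.mem_coe.2 (Finset.mem_image_of_mem _ (Finset.mem_univ i)))
    have hb : b = ∑ i, Pi.single i (b i) := (Finset.univ_sum_single b).symm
    rw [hb]
    refine Submodule.sum_mem _ fun i _ => ?_
    obtain ⟨r₁, hr₁⟩ := hrng (fun _ => PowerSeries.C (c b i)) fun _ _ => rfl
    obtain ⟨r₂, hr₂⟩ := hm (fun _ => b i - PowerSeries.C (c b i)) fun _ => by simp [c]
    have : Pi.single i (b i) = (r₁ + r₂) • (Pi.single i 1 : P) := by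
      show _ = φ (r₁ + r₂) * _
      rw [map_add, hr₁, hr₂]
      funext l
      rcases eq_or_ne l i with rfl | hl
      · simp
      · simp [Pi.single_eq_of_ne hl]
    rw [this]
    exact Submodule.smul_mem _ _ (he i)
  have hB : IsNormalAll P := isNormalAll_pi fun _ : Fin n => PowerSeries K
  refine ⟨?_, ?_⟩
  · -- the quotient is `K^(n-1)`
    obtain ⟨m, rfl⟩ := Nat.exists_eq_add_of_le' hn
    let ρ : R →+* K := (PowerSeries.constantCoeff.comp (Pi.evalRingHom (fun _ : Fin (m + 1) => PowerSeries K) 0)).comp φ
    have hρ : Function.Surjective ρ := fun a => by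
      obtain ⟨r, hr'⟩ := hrng (fun _ => PowerSeries.C a) fun _ _ => rfl
      refine ⟨r, ?_⟩
      show PowerSeries.constantCoeff (φ r 0) = a
      rw [hr']
      simp
    letI : Module R (Fin m → K) := Module.compHom _ ρ
    have hρc : ∀ r i, PowerSeries.constantCoeff (φ r i) = ρ r := fun r i => (hr.le ⟨r, rfl⟩) i 0
    let g : P →ₗ[R] (Fin m → K) :=
      { toFun := fun f i => c f i.succ - c f 0
        map_add' := fun f f' => funext fun i => by
          show PowerSeries.constantCoeff (f i.succ + f' i.succ) - PowerSeries.constantCoeff (f 0 + f' 0) =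
            (c f i.succ - c f 0) + (c f' i.succ - c f' 0)
          rw [map_add, map_add]
          ring
        map_smul' := fun r f => funext fun i => by
          show PowerSeries.constantCoeff (φ r i.succ * f i.succ) - PowerSeries.constantCoeff (φ r 0 * f 0) =
            ρ r * (c f i.succ - c f 0)
          rw [map_mul, map_mul, hρc, hρc, mul_sub] }
    have hg : Function.Surjective g := fun v => ⟨fun i => PowerSeries.C (Fin.cases 0 v i), funext fun i => by
      show PowerSeries.constantCoeff (PowerSeries.C (Fin.cases 0 v i.succ)) -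
        PowerSeries.constantCoeff (PowerSeries.C ((Fin.cases 0 v 0 : K))) = v i
      simp⟩
    have hker : LinearMap.ker g = LinearMap.range (Algebra.linearMap R P) := by
      refine le_antisymm (fun f hf => ?_) ?_
      · have h0 : ∀ i, c f i = c f 0 := Fin.cases rfl fun i => sub_eq_zero.1 (congrFun hf i)
        obtain ⟨r, hr'⟩ := hrng f fun i j => (h0 i).trans (h0 j).symm
        exact ⟨r, hr'⟩
      · rintro _ ⟨r, rfl⟩
        exact funext fun i => sub_eq_zero.2 ((hρc r i.succ).trans (hρc r 0).symm)
    rw [deltaInv_eq R P hinj hd htf hB,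
      ((Submodule.quotEquivOfEq _ _ hker.symm).trans (LinearMap.quotKerEquivOfSurjective g hg)).length_eq,
      show Module.length R (Fin m → K) = (m : ℕ∞) by
        letI : Algebra R K := ρ.toAlgebra
        haveI : IsScalarTower R K (Fin m → K) := ⟨fun r a v => mul_smul (ρ r) a v⟩
        exact (Module.length_eq_of_surjective (R := K) (S := R) (M := Fin m → K) hρ).trans
          (by rw [Module.length_eq_finrank K, Module.finrank_fin_fun])]
    norm_cast
  · haveI : _root_.IsReduced R := isReduced_of_injective φ hinj
    obtain ⟨g, -⟩ := Groth.Agent.S16431.exists_normRed_equiv R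
    obtain ⟨e⟩ := nonempty_equiv_integralClosure R P (FractionRing R) hinj hd htf hB
    let E : CAlg2.normRed R ≃+* P := g.trans e.symm.toRingEquiv
    have hmin : (minimalPrimes R).Finite := by
      refine Set.Finite.subset (Set.finite_range fun i : Fin n => RingHom.ker ((Pi.evalRingHom _ i).comp φ)) fun p hp => ?_
      have h0 : ∏ i, RingHom.ker ((Pi.evalRingHom (fun _ : Fin n => PowerSeries K) i).comp φ) ≤ p := by
        refine Ideal.prod_le_inf.trans fun r hr' => ?_
        have : r = 0 := hinj (funext fun i => by
          have := (Finset.inf_le (Finset.mem_univ i) : Finset.univ.inf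
            (fun i => RingHom.ker ((Pi.evalRingHom (fun _ : Fin n => PowerSeries K) i).comp φ)) ≤ _) hr'
          rw [map_zero]
          exact this)
        rw [this]
        exact zero_mem _
      obtain ⟨i, -, hi⟩ := (Ideal.IsPrime.prod_le hp.1.1).1 h0
      exact ⟨i, le_antisymm hi (hp.2 ⟨RingHom.ker_isPrime _, bot_le⟩ hi)⟩
    rw [Brnch.numBranches, if_pos hmin]
    have hmax : ∀ p : MaximalSpectrum P, ∃ i : Fin n, p.asIdeal =
        (maximalIdeal (PowerSeries K)).comap (Pi.evalRingHom (fun _ : Fin n => PowerSeries K) i) := fun p => by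
      haveI := p.isMaximal
      obtain ⟨i, q, hq⟩ := PrimeSpectrum.exists_comap_evalRingHom_eq (⟨p.asIdeal, p.isMaximal.isPrime⟩ : PrimeSpectrum P)
      have hq' : q.asIdeal.comap (Pi.evalRingHom (fun _ : Fin n => PowerSeries K) i) = p.asIdeal :=
        congrArg PrimeSpectrum.asIdeal hq
      refine ⟨i, p.isMaximal.eq_of_le (Ideal.comap_ne_top _ (maximalIdeal.isMaximal _).ne_top) ?_⟩
      rw [← hq']
      exact Ideal.comap_mono (le_maximalIdeal q.isPrime.ne_top)
    let μ : Fin n → MaximalSpectrum P := fun i =>
      ⟨(maximalIdeal (PowerSeries K)).comap (Pi.evalRingHom (fun _ : Fin n => PowerSeries K) i),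
        Ideal.comap_isMaximal_of_surjective _ (Function.surjective_eval i)⟩
    have hμ : Function.Bijective μ := by
      refine ⟨fun i j h => ?_, fun p => ?_⟩
      · by_contra hij
        have h1 : (Pi.single j 1 : P) ∈ (μ i).asIdeal := by
          show Pi.evalRingHom (fun _ : Fin n => PowerSeries K) i (Pi.single j 1) ∈ maximalIdeal _
          rw [Pi.evalRingHom_apply, Pi.single_eq_of_ne hij]
          exact zero_mem _
        rw [h] at h1
        replace h1 : (Pi.single j 1 : P) j ∈ maximalIdeal (PowerSeries K) := h1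
        rw [Pi.single_eq_same] at h1
        exact (maximalIdeal.isMaximal (PowerSeries K)).ne_top ((Ideal.eq_top_iff_one _).2 h1)
      · obtain ⟨i, hi⟩ := hmax p
        exact ⟨i, MaximalSpectrum.ext hi.symm⟩
    let M : MaximalSpectrum (CAlg2.normRed R) ≃ MaximalSpectrum P :=
      { toFun := fun p => ⟨p.asIdeal.comap E.symm, haveI := p.isMaximal; Ideal.comap_isMaximal_of_surjective _ E.symm.surjective⟩
        invFun := fun p => ⟨p.asIdeal.comap E, haveI := p.isMaximal; Ideal.comap_isMaximal_of_surjective _ E.surjective⟩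
        left_inv := fun p => MaximalSpectrum.ext (Ideal.ext fun x =>
          show E.symm (E x) ∈ p.asIdeal ↔ x ∈ p.asIdeal by rw [E.symm_apply_apply])
        right_inv := fun p => MaximalSpectrum.ext (Ideal.ext fun x =>
          show E (E.symm x) ∈ p.asIdeal ↔ x ∈ p.asIdeal by rw [E.apply_symm_apply]) }
    rw [ENat.card_congr (M.trans (Equiv.ofBijective μ hμ).symm), ENat.card_eq_coe_fintype_card, Fintype.card_fin]

end Groth.Agent.DeltaNorm
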