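import Groth.Agent.DeltaNorm.Axes
import Groth.Agent.S7654
import Groth.Agent.S9241
import Groth.Agent.Nagata.Japanese
import Groth.Agent.Nagata.Local
import Groth.Agent.GeomProp.NormalColim
import Groth.Agent.ExtShX.CodimField
import Groth.Prelude.Def_Curv2

/-!
A point of a curve whose completed local ring is a ring of axes.
-/

set_option autoImplicit false
set_option linter.style.haveILetI false

universe u

open CategoryTheory AlgebraicGeometry IsLocalRing

namespace Groth.Agent.DeltaNorm

/-- a one dimensional reduced Nagata local ring with completion a ring of axes -/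
theorem delta_branches_of_cpl {A : Type u} [CommRing A] [IsLocalRing A] [_root_.IsReduced A]
    (hN : CAlg.IsNagata A) (hdim : ringKrullDim A = 1) {K : Type u} [Field K] {n : ℕ}
    (e : Curv2.cpl A ≃+* MvPowerSeries (Fin n) K ⧸ axesIdeal K n) :
    Brnch.numBranches A = n ∧ Curv2.deltaInv A + 1 = n := by
  haveI := hN.1
  have hn : 1 ≤ n := by
    by_contra h0
    obtain rfl : n = 0 := by omega
    have hne : maximalIdeal A ≠ ⊥ := fun hb => by
      have hF : IsField A := IsLocalRing.isField_iff_maximalIdeal_eq.2 hb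
      rw [ringKrullDim_eq_zero_of_isField hF] at hdim
      exact zero_ne_one hdim
    obtain ⟨a, ha, ha0⟩ := Submodule.exists_mem_ne_zero_of_ne_bot hne
    have hinj : Function.Injective (algebraMap A (Curv2.cpl A)) := AdicCompletion.of_injective (maximalIdeal A) A
    have hnu : ¬ IsUnit (algebraMap A (Curv2.cpl A) a) := fun hu => by
      have h1 := hu.map (AdicCompletion.evalₐ (maximalIdeal A) 1)
      rw [AlgHom.commutes] at h1
      have h2 : algebraMap A (A ⧸ maximalIdeal A ^ 1) a = 0 :=
        Ideal.Quotient.eq_zero_iff_mem.2 (by rw [pow_one]; exact ha)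
      rw [h2] at h1
      haveI : Nontrivial (A ⧸ maximalIdeal A ^ 1) :=
        Ideal.Quotient.nontrivial_iff.2 (by rw [pow_one]; exact (maximalIdeal.isMaximal A).ne_top)
      exact not_isUnit_zero h1
    refine hnu ?_
    have hz : e (algebraMap A (Curv2.cpl A) a) ≠ 0 := fun h => ha0 (hinj (by
      rw [map_zero]
      exact e.injective (h.trans (map_zero e).symm)))
    obtain ⟨f, hf⟩ := Ideal.Quotient.mk_surjective (e (algebraMap A (Curv2.cpl A) a))
    have hf0 : f ≠ 0 := fun h => hz (by rw [← hf, h, map_zero])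
    have hfu : IsUnit f := by
      rw [MvPowerSeries.isUnit_iff_constantCoeff, isUnit_iff_ne_zero]
      intro h
      refine hf0 (MvPowerSeries.ext fun m => ?_)
      rw [Subsingleton.elim m 0, MvPowerSeries.coeff_zero_eq_constantCoeff_apply, h, map_zero]
    have h1 := hfu.map (Ideal.Quotient.mk (axesIdeal K 0))
    rw [hf] at h1
    simpa using h1.map e.symm
  obtain ⟨φ, hinj, hr⟩ := exists_embedding K n hn e
  obtain ⟨h1, h2⟩ := delta_branches_axes hn φ hinj hr
  rw [(Groth.Agent.S9241.result A hdim).1] at h2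
  rw [(Groth.Agent.S7654.result A hN hdim).2.2] at h1
  exact ⟨h2, h1⟩

/-- local rings of schemes locally of finite type over a field are Nagata -/
theorem isNagata_stalk {k : Type u} [Field k] {X : Scheme.{u}} (f : X ⟶ Spec (CommRingCat.of k))
    [LocallyOfFiniteType f] (x : X) : CAlg.IsNagata (X.presheaf.stalk x) := by
  obtain ⟨U, hU, hxU, -⟩ := exists_isAffineOpen_mem_and_subset (x := x) (U := (⊤ : X.Opens)) trivial
  have hft := LocallyOfFiniteType.finiteType_appLE (f := f) (isAffineOpen_top _) hU
    (show U ≤ f ⁻¹ᵁ ⊤ from fun _ _ => trivial)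
  letI := (f.appLE ⊤ U fun _ _ => trivial).hom.toAlgebra
  haveI : Algebra.FiniteType Γ(Spec (CommRingCat.of k), ⊤) Γ(X, U) := hft
  have hk : CAlg.IsNagata Γ(Spec (CommRingCat.of k), ⊤) := Nagata.isNagata_of_surjective
    (Scheme.ΓSpecIso (CommRingCat.of k)).commRingCatIsoToRingEquiv.symm.toRingHom
    (Scheme.ΓSpecIso (CommRingCat.of k)).commRingCatIsoToRingEquiv.symm.surjective (GeomProp.isN2_quotient_field k)
  have hU' : CAlg.IsNagata Γ(X, U) := Nagata.isNagata_of_finiteType hk
  letI := TopCat.Presheaf.algebra_section_stalk X.presheaf (⟨x, hxU⟩ : U)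
  haveI := hU.isLocalization_stalk ⟨x, hxU⟩
  exact Nagata.isNagata_of_isLocalization hU' (hU.primeIdealOf ⟨x, hxU⟩).asIdeal.primeCompl _

/-- closed points of an equidimensional scheme of dimension one over a field -/
theorem dim_stalk_eq_one {k : Type u} [Field k] {X : Scheme.{u}} (f : X ⟶ Spec (CommRingCat.of k))
    [LocallyOfFiniteType f] (hdim : ∀ Z ∈ irreducibleComponents (X : Type u), topologicalKrullDim Z = 1)
    {x : X} (hx : IsClosed ({x} : Set X)) : ringKrullDim (X.presheaf.stalk x) = 1 := by
  obtain ⟨a, d, ha, hd, had⟩ := ExtShX.exists_dims_field f 1 (fun Z hZ => (hdim Z hZ).trans (by norm_num)) x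
  have h0 : topologicalKrullDim ↥(closure ({x} : Set X)) ≤ 0 := by
    rw [hx.closure_eq]
    haveI : Subsingleton ↥({x} : Set X) := Set.subsingleton_singleton.coe_sort
    haveI : Subsingleton (TopologicalSpace.IrreducibleCloseds ↥({x} : Set X)) := ⟨fun A B => by
      refine SetLike.coe_injective ?_
      obtain ⟨a, ha⟩ := A.isIrreducible.nonempty
      obtain ⟨b, hb⟩ := B.isIrreducible.nonempty
      exact Set.ext fun z => ⟨fun _ => Subsingleton.elim b z ▸ hb, fun _ => Subsingleton.elim a z ▸ ha⟩⟩
    exact Order.krullDim_nonpos_of_subsingleton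
  rw [ha] at h0
  have : a = 0 := Nat.le_zero.1 (by exact_mod_cast h0)
  rw [hd]
  norm_cast
  omega

end Groth.Agent.DeltaNorm
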