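import Groth.Agent.DeltaNorm.Multicross
import Groth.Agent.DeltaNorm.AxesPoint
import Groth.Agent.S2647

/-!
Multicross points.
-/

set_option autoImplicit false
set_option linter.style.haveILetI false

universe u

open IsLocalRing
open scoped PowerSeries

namespace Groth.Agent.DeltaNorm

open Groth.Agent

variable {k : Type u} [Field k] {n : ℕ}

/-- a multicross embedding of a completion -/
theorem exists_multicross_cpl {A : Type u} [CommRing A] [IsLocalRing A] [Algebra k A] [_root_.IsReduced A]
    (hdim : ringKrullDim A = 1) (hN : CAlg.IsNagata A)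
    (hres : Function.Bijective (algebraMap k (ResidueField A)))
    (hn : Brnch.numBranches A = n) (hδ : Curv2.deltaInv A + 1 = n) :
    ∃ φ : Curv2.cpl A →+* (Fin n → PowerSeries k), Function.Injective φ ∧
      (∀ c : k, φ (algebraMap A (Curv2.cpl A) (algebraMap k A c)) = fun _ => algebraMap k (PowerSeries k) c) ∧
      Set.range φ = {f : Fin n → PowerSeries k | ∀ i j, PowerSeries.constantCoeff (f i) = PowerSeries.constantCoeff (f j)} := by
  haveI := hN.1
  haveI hred : _root_.IsReduced (Curv2.cpl A) := by
    have h := Groth.Agent.S2647.result A hN.2 A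
    rwa [IsLocalRing.jacobson_eq_maximalIdeal ⊥ bot_ne_top] at h
  letI : Algebra k (Curv2.cpl A) := ((algebraMap A (Curv2.cpl A)).comp (algebraMap k A)).toAlgebra
  have hcd : ringKrullDim (Curv2.cpl A) = 1 := (AdicBasics.ringKrullDim_completion A).trans hdim
  have hres' : Function.Bijective ((residue (Curv2.cpl A)).comp (algebraMap k (Curv2.cpl A))) := by
    have h : ((residue (Curv2.cpl A)).comp (algebraMap k (Curv2.cpl A)) : k → ResidueField (Curv2.cpl A)) =
        ResidueField.map (algebraMap A (Curv2.cpl A)) ∘ algebraMap k (ResidueField A) := funext fun _ => rfl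
    rw [h]
    exact (AdicCompletion.residueField_map_bijective (R := A)).comp hres
  refine exists_multicross (C := Curv2.cpl A) hres' hcd ?_ ?_
  · exact (Groth.Agent.S9241.result A hdim).1.trans hn
  · rw [(Groth.Agent.S7654.result A hN hdim).2.2]
    exact hδ

/-- the presentation of a ring of axes -/
theorem exists_equiv_axes {R : Type u} [CommRing R] (hn : 1 ≤ n) (φ : R →+* (Fin n → PowerSeries k))
    (hinj : Function.Injective φ) (hr : Set.range φ =
      {f : Fin n → PowerSeries k | ∀ i j, PowerSeries.constantCoeff (f i) = PowerSeries.constantCoeff (f j)}) :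
    ∃ e : R ≃+* MvPowerSeries (Fin n) k ⧸ axesIdeal k n, ∀ (r : R) (c : k),
      φ r = (fun _ => algebraMap k (PowerSeries k) c) → e r = Ideal.Quotient.mk _ (MvPowerSeries.C c) := by
  let ψ := Ideal.Quotient.lift (axesIdeal k n) (toAxes k n) fun a ha => (toAxes_eq_zero_iff k n hn a).2 ha
  have hψ : Function.Injective ψ := by
    rw [injective_iff_map_eq_zero]
    intro q hq
    obtain ⟨a, rfl⟩ := Ideal.Quotient.mk_surjective q
    exact Ideal.Quotient.eq_zero_iff_mem.2 ((toAxes_eq_zero_iff k n hn a).1 hq)
  have hψr : Set.range ψ = Set.range φ := by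
    rw [hr, ← range_toAxes]
    ext g
    exact ⟨fun ⟨q, hq⟩ => by obtain ⟨a, rfl⟩ := Ideal.Quotient.mk_surjective q; exact ⟨a, hq⟩,
      fun ⟨a, ha⟩ => ⟨Ideal.Quotient.mk _ a, ha⟩⟩
  choose f hf using fun r => hψr.ge (Set.mem_range_self r)
  let F : R →+* MvPowerSeries (Fin n) k ⧸ axesIdeal k n :=
    { toFun := f
      map_one' := hψ (by rw [hf, map_one, map_one])
      map_mul' := fun a b => hψ (by rw [hf, map_mul, map_mul, hf, hf])
      map_zero' := hψ (by rw [hf, map_zero, map_zero])
      map_add' := fun a b => hψ (by rw [hf, map_add, map_add, hf, hf]) }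
  have hF : Function.Bijective F := ⟨fun a b h => hinj (by rw [← hf a, ← hf b]; exact congrArg ψ h),
    fun q => by
      obtain ⟨r, hr'⟩ := hψr.le (Set.mem_range_self q)
      exact ⟨r, hψ ((hf r).trans hr')⟩⟩
  refine ⟨RingEquiv.ofBijective F hF, fun r c hc => hψ ((hf r).trans (hc.trans (funext fun i => ?_)))⟩
  refine PowerSeries.ext fun m => ?_
  show _ = PowerSeries.coeff m (toAxes k n (MvPowerSeries.C c) i)
  rw [coeff_toAxes, MvPowerSeries.coeff_C, PowerSeries.algebraMap_apply, Algebra.algebraMap_self,
    RingHom.id_apply, PowerSeries.coeff_C]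
  by_cases hm : m = 0
  · subst hm; simp
  · rw [if_neg hm, if_neg (by simpa using hm)]

/-- the embedding dimension of a ring of axes -/
theorem spanFinrank_maximalIdeal_axes {R : Type u} [CommRing R] [IsLocalRing R] [IsNoetherianRing R] (hn : 1 ≤ n)
    (φ : R →+* (Fin n → PowerSeries k)) (hinj : Function.Injective φ) (hr : Set.range φ =
      {f : Fin n → PowerSeries k | ∀ i j, PowerSeries.constantCoeff (f i) = PowerSeries.constantCoeff (f j)}) :
    (maximalIdeal R).spanFinrank = n := by
  classical
  have hrng : ∀ f : Fin n → PowerSeries k, (∀ i j, PowerSeries.constantCoeff (f i) = PowerSeries.constantCoeff (f j)) →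
      ∃ r, φ r = f := fun f hf => hr.ge hf
  have hcc : ∀ r i, PowerSeries.constantCoeff (φ r i) = PowerSeries.constantCoeff (φ r ⟨0, hn⟩) := fun r i =>
    hr.le ⟨r, rfl⟩ i ⟨0, hn⟩
  have hmem : ∀ r, r ∈ maximalIdeal R ↔ ∀ i, PowerSeries.constantCoeff (φ r i) = 0 := fun r => by
    refine ⟨fun h i => by_contra fun hne => (mem_maximalIdeal r).1 h ?_, fun h => (mem_maximalIdeal r).2 fun hu => ?_⟩
    · have hne' : ∀ j, PowerSeries.constantCoeff (φ r j) ≠ 0 := fun j => by rw [hcc r j, ← hcc r i]; exact hne
      obtain ⟨s, hs⟩ := hrng (fun j => (φ r j)⁻¹) fun a b => by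
        rw [PowerSeries.constantCoeff_inv, PowerSeries.constantCoeff_inv, hcc r a, hcc r b]
      refine .of_mul_eq_one s (hinj ?_)
      rw [map_mul, map_one, hs]
      exact funext fun j => PowerSeries.mul_inv_cancel _ (hne' j)
    · exact not_isUnit_zero (h ⟨0, hn⟩ ▸ hu.map ((PowerSeries.constantCoeff).comp
        ((Pi.evalRingHom (fun _ : Fin n => PowerSeries k) ⟨0, hn⟩).comp φ)))
  choose g hg using fun i : Fin n => hrng (Pi.single i PowerSeries.X) fun a b => by
    have : ∀ c, PowerSeries.constantCoeff ((Pi.single i PowerSeries.X : Fin n → PowerSeries k) c) = 0 := fun c => by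
      rcases eq_or_ne c i with rfl | hc
      · simp
      · simp [Pi.single_eq_of_ne hc]
    rw [this, this]
  have hgen : maximalIdeal R = Ideal.span (Set.range g) := by
    refine le_antisymm (fun r hr' => ?_) (Ideal.span_le.2 ?_)
    · have hX : ∀ i, ∃ h, φ r i = PowerSeries.X * h := fun i =>
        PowerSeries.X_dvd_iff.2 ((hmem r).1 hr' i)
      choose h hh using hX
      choose s hs using fun i => hrng (Function.update (fun _ => PowerSeries.C (PowerSeries.constantCoeff (h i))) i (h i))
        fun a b => by
          have : ∀ c, PowerSeries.constantCoeff (Function.update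
              (fun _ : Fin n => PowerSeries.C (PowerSeries.constantCoeff (h i))) i (h i) c) =
              PowerSeries.constantCoeff (h i) := fun c => by
            rcases eq_or_ne c i with rfl | hc
            · simp
            · simp [Function.update_of_ne hc]
          rw [this, this]
      have : r = ∑ i, s i * g i := hinj (funext fun j => by
        rw [map_sum, Finset.sum_apply, Finset.sum_eq_single j]
        · rw [map_mul, hs, hg, Pi.mul_apply, Function.update_self, Pi.single_eq_same, hh, mul_comm]
        · intro i _ hij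
          rw [map_mul, hg, Pi.mul_apply, Pi.single_eq_of_ne hij.symm, mul_zero]
        · exact fun h => absurd (Finset.mem_univ j) h)
      rw [this]
      exact Ideal.sum_mem _ fun i _ => Ideal.mul_mem_left _ _ (Ideal.subset_span ⟨i, rfl⟩)
    · rintro _ ⟨i, rfl⟩
      refine (hmem _).2 fun j => ?_
      rw [hg]
      rcases eq_or_ne j i with rfl | hc
      · simp
      · simp [Pi.single_eq_of_ne hc]
  refine le_antisymm ?_ ?_
  · rw [hgen]
    refine (Submodule.spanFinrank_span_le_ncard_of_finite (Set.finite_range g)).trans ?_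
    rw [← Set.image_univ]
    exact (Set.ncard_image_le Set.finite_univ).trans (by simp)
  · have hfg : (maximalIdeal R).FG := IsNoetherian.noetherian _
    obtain ⟨G, hGc, hGs⟩ : ∃ G : Finset R, G.card = (maximalIdeal R).spanFinrank ∧
        Ideal.span (G : Set R) = maximalIdeal R :=
      ⟨(Submodule.FG.finite_generators hfg).toFinset,
        by rw [← Set.ncard_eq_toFinset_card _ (Submodule.FG.finite_generators hfg), Submodule.FG.generators_ncard hfg],
        by rw [Set.Finite.coe_toFinset]; exact Submodule.span_generators _⟩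
    let L : R → Fin n → k := fun r i => PowerSeries.coeff 1 (φ r i)
    have hspan : ∀ r ∈ maximalIdeal R, L r ∈ Submodule.span k ((G.image L : Finset (Fin n → k)) : Set (Fin n → k)) := by
      intro r hr'
      obtain ⟨a, -, rfl⟩ := Submodule.mem_span_finset.1 (hGs.ge hr')
      have : L (∑ x ∈ G, a x • x) = ∑ x ∈ G, PowerSeries.constantCoeff (φ (a x) ⟨0, hn⟩) • L x := funext fun i => by
        simp only [L, map_sum, Finset.sum_apply, Pi.smul_apply, smul_eq_mul]
        refine Finset.sum_congr rfl fun x hx => ?_
        rw [map_mul, Pi.mul_apply, PowerSeries.coeff_one_mul, (hmem x).1 (hGs.le (Ideal.subset_span hx)) i,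
          mul_zero, zero_add, hcc (a x) i]
        ring
      rw [this]
      exact Submodule.sum_mem _ fun x hx => Submodule.smul_mem _ _
        (Submodule.subset_span (Finset.mem_coe.2 (Finset.mem_image_of_mem L hx)))
    have htop : Submodule.span k ((G.image L : Finset (Fin n → k)) : Set (Fin n → k)) = ⊤ := by
      refine top_le_iff.1 fun v _ => ?_
      rw [show v = ∑ i, v i • L (g i) from funext fun j => ?_]
      · exact Submodule.sum_mem _ fun i _ => Submodule.smul_mem _ _
          (hspan _ (hgen ▸ Ideal.subset_span ⟨i, rfl⟩))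
      · rw [Finset.sum_apply, Finset.sum_eq_single j]
        · simp [L, hg]
        · intro i _ hij
          simp [L, hg, Pi.single_eq_of_ne hij.symm]
        · exact fun h => absurd (Finset.mem_univ j) h
    have h1 := finrank_span_finset_le_card (R := k) (G.image L)
    rw [Set.finrank, htop, finrank_top, Module.finrank_fin_fun] at h1
    exact h1.trans (Finset.card_image_le.trans hGc.le)

end Groth.Agent.DeltaNorm
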