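import Groth.Agent.DeltaNorm.Axes
import Groth.Agent.NagataOne.Dim
import Groth.Agent.AdicBasics.PowerSeriesEval
import Groth.Agent.FinComplete.Basic
import Groth.Agent.Nagata.PowerSeries
import Groth.Agent.DeltaBC.Uniformizer

/-!
Complete one dimensional local rings with `δ = branches - 1` are rings of axes.
-/

set_option autoImplicit false
set_option linter.style.haveILetI false
set_option maxHeartbeats 1000000

universe u

open IsLocalRing
open scoped PowerSeries

namespace Groth.Agent.DeltaNorm

open Groth.Agent

/-- maximal spectra along an isomorphism -/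
def maxSpecEquiv {A B : Type u} [CommRing A] [CommRing B] (E : A ≃+* B) : MaximalSpectrum A ≃ MaximalSpectrum B where
  toFun p := ⟨p.asIdeal.comap E.symm, haveI := p.isMaximal; Ideal.comap_isMaximal_of_surjective _ E.symm.surjective⟩
  invFun p := ⟨p.asIdeal.comap E, haveI := p.isMaximal; Ideal.comap_isMaximal_of_surjective _ E.surjective⟩
  left_inv p := MaximalSpectrum.ext (Ideal.ext fun x =>
    show E.symm (E x) ∈ p.asIdeal ↔ x ∈ p.asIdeal by rw [E.symm_apply_apply])
  right_inv p := MaximalSpectrum.ext (Ideal.ext fun x =>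
    show E (E.symm x) ∈ p.asIdeal ↔ x ∈ p.asIdeal by rw [E.apply_symm_apply])

/-- the maximal spectrum of a product of local rings -/
noncomputable def maxSpecPi {ι : Type u} [Finite ι] (D : ι → Type u) [∀ i, CommRing (D i)] [∀ i, IsLocalRing (D i)] :
    ι ≃ MaximalSpectrum (∀ i, D i) :=
  Equiv.ofBijective
    (fun i => ⟨(maximalIdeal (D i)).comap (Pi.evalRingHom D i),
      Ideal.comap_isMaximal_of_surjective _ (Function.surjective_eval i)⟩) (by
    classical
    refine ⟨fun i j h => ?_, fun p => ?_⟩
    · by_contra hij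
      have h1 : (Pi.single j 1 : ∀ l, D l) ∈ (maximalIdeal (D i)).comap (Pi.evalRingHom D i) := by
        show (Pi.single j 1 : ∀ l, D l) i ∈ maximalIdeal (D i)
        rw [Pi.single_eq_of_ne hij]
        exact zero_mem _
      rw [show (maximalIdeal (D i)).comap (Pi.evalRingHom D i) = (maximalIdeal (D j)).comap (Pi.evalRingHom D j)
        from congrArg MaximalSpectrum.asIdeal h] at h1
      replace h1 : (Pi.single j 1 : ∀ l, D l) j ∈ maximalIdeal (D j) := h1
      rw [Pi.single_eq_same] at h1
      exact (maximalIdeal.isMaximal (D j)).ne_top ((Ideal.eq_top_iff_one _).2 h1)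
    · obtain ⟨i, q, hq⟩ := PrimeSpectrum.exists_comap_evalRingHom_eq (⟨p.asIdeal, p.isMaximal.isPrime⟩ : PrimeSpectrum (∀ i, D i))
      have hq' : q.asIdeal.comap (Pi.evalRingHom D i) = p.asIdeal := congrArg PrimeSpectrum.asIdeal hq
      refine ⟨i, MaximalSpectrum.ext (p.isMaximal.eq_of_le
        (Ideal.comap_ne_top _ (maximalIdeal.isMaximal _).ne_top) ?_).symm⟩
      rw [← hq']
      exact Ideal.comap_mono (le_maximalIdeal q.isPrime.ne_top))

/-- the core: a product of complete discrete valuation rings over the axes -/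
theorem multicross_core {k C : Type u} [Field k] [CommRing C] [IsLocalRing C] [Algebra k C]
    (hres : Function.Bijective ((residue C).comp (algebraMap k C)))
    {ι : Type u} [Fintype ι] (D : ι → Type u) [∀ i, CommRing (D i)] [∀ i, IsDomain (D i)]
    [∀ i, IsDiscreteValuationRing (D i)]
    [∀ i, IsAdicComplete (maximalIdeal (D i)) (D i)] [∀ i, Algebra C (D i)] [∀ i, Algebra k (D i)]
    [∀ i, IsScalarTower k C (D i)] [∀ i, IsLocalHom (algebraMap C (D i))] [∀ i, Module.Finite C (D i)]
    (hinj : Function.Injective (algebraMap C (∀ i, D i)))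
    (hlen : Module.length C ((∀ i, D i) ⧸ LinearMap.range (Algebra.linearMap C (∀ i, D i))) + 1 = Fintype.card ι) :
    ∃ φ : C →+* (ι → PowerSeries k), Function.Injective φ ∧
      (∀ c : k, φ (algebraMap k C c) = fun _ => algebraMap k (PowerSeries k) c) ∧
      Set.range φ = {f : ι → PowerSeries k | ∀ i j, PowerSeries.constantCoeff (f i) = PowerSeries.constantCoeff (f j)} := by
  classical
  -- scalars
  let ρe := RingEquiv.ofBijective _ hres
  let ρ : C →+* k := ρe.symm.toRingHom.comp (residue C)
  have hρ : ∀ c, residue C (algebraMap k C (ρ c)) = residue C c := fun c => ρe.apply_symm_apply _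
  have hρk : ∀ a, ρ (algebraMap k C a) = a := fun a => ρe.symm_apply_apply a
  have hdec : ∀ c i, residue (D i) (algebraMap C (D i) c) = residue (D i) (algebraMap k (D i) (ρ c)) := fun c i => by
    rw [IsScalarTower.algebraMap_apply k C (D i)]
    refine Ideal.Quotient.eq.2 ?_
    rw [← map_sub]
    exact (mem_maximalIdeal _).2 fun hu =>
      (mem_maximalIdeal _).1 (Ideal.Quotient.eq.1 (hρ c).symm) (isUnit_of_map_unit (algebraMap C (D i)) _ hu)
  let κ := fun i => ResidueField (D i)
  let ak : ∀ i, k →+* κ i := fun i => (residue (D i)).comp (algebraMap k (D i))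
  -- the residue map
  let g : (∀ i, D i) →ₗ[C] (∀ i, κ i) :=
    LinearMap.pi fun i => (IsScalarTower.toAlgHom C (D i) (κ i)).toLinearMap.comp (LinearMap.proj i)
  have hg : ∀ b i, g b i = residue (D i) (b i) := fun b i => rfl
  have hgs : Function.Surjective g := fun v => by
    choose b hb using fun i => Ideal.Quotient.mk_surjective (v i)
    exact ⟨b, funext hb⟩
  have hne : Nonempty ι := by
    by_contra h
    rw [not_nonempty_iff] at h
    exact one_ne_zero (hinj (funext fun i => isEmptyElim i : algebraMap C (∀ i, D i) 1 = algebraMap C (∀ i, D i) 0))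
  let Δ : Submodule C (∀ i, κ i) := LinearMap.range ((g.comp (Algebra.linearMap C (∀ i, D i))))
  let G := Δ.mkQ.comp g
  have hle : LinearMap.range (Algebra.linearMap C (∀ i, D i)) ≤ LinearMap.ker G := by
    rintro _ ⟨c, rfl⟩
    exact (Submodule.Quotient.mk_eq_zero Δ).2 ⟨c, rfl⟩
  let Gb := Submodule.liftQ _ G hle
  have hGb : Function.Surjective Gb := fun y => by
    obtain ⟨v, rfl⟩ := Δ.mkQ_surjective y
    obtain ⟨b, rfl⟩ := hgs v
    exact ⟨Submodule.Quotient.mk b, rfl⟩
  -- lengths
  letI : Algebra C k := ρ.toAlgebra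
  haveI : ∀ i, IsScalarTower C k (κ i) := fun i => IsScalarTower.of_algebraMap_eq fun c => hdec c i
  have hρs : Function.Surjective (algebraMap C k) := fun a => ⟨algebraMap k C a, hρk a⟩
  have hκlen : Module.length C (∀ i, κ i) = ∑ i, Module.length k (κ i) := by
    rw [Module.length_eq_of_surjective (R := k) (S := C) hρs, Module.length_pi_of_fintype]
  have hΔlen : Module.length C Δ = 1 := by
    have hker : LinearMap.ker (g.comp (Algebra.linearMap C (∀ i, D i))) = maximalIdeal C := by
      ext c
      constructor
      · intro hc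
        by_contra hm
        have hu : IsUnit c := by rwa [mem_maximalIdeal, mem_nonunits_iff, not_not] at hm
        obtain ⟨i⟩ := hne
        exact (hu.map ((residue (D i)).comp (algebraMap C (D i)))).ne_zero (congrFun hc i)
      · intro hc
        exact funext fun i => (Ideal.Quotient.eq_zero_iff_mem).2 ((mem_maximalIdeal _).2 fun hu =>
          (mem_maximalIdeal _).1 hc (isUnit_of_map_unit (algebraMap C (D i)) _ hu))
    rw [← (LinearMap.quotKerEquivRange _).length_eq, (Submodule.quotEquivOfEq _ _ hker).length_eq]
    haveI : IsSimpleModule C (C ⧸ maximalIdeal C) := by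
      rw [isSimpleModule_iff_isCoatom]
      exact (maximalIdeal.isMaximal C).out
    exact Module.length_eq_one C _
  have hqlen : Module.length C ((∀ i, κ i) ⧸ Δ) + 1 = ∑ i, Module.length k (κ i) := by
    rw [← hκlen, Module.length_eq_add_of_exact Δ.subtype Δ.mkQ Δ.injective_subtype Δ.mkQ_surjective
      (LinearMap.exact_subtype_mkQ Δ), hΔlen, add_comm]
  have hone : ∀ i, 1 ≤ Module.length k (κ i) := fun i => ENat.one_le_iff_ne_zero.2 fun h => by
    haveI := Module.length_eq_zero_iff.1 h
    exact false_of_nontrivial_of_subsingleton (κ i)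
  have hup : ∑ i, Module.length k (κ i) ≤ (Fintype.card ι : ℕ∞) := by
    rw [← hqlen, ← hlen]
    exact add_le_add (Module.length_le_of_surjective Gb hGb) le_rfl
  have hL : ∀ i, Module.length k (κ i) = 1 := fun i => by
    refine le_antisymm ?_ (hone i)
    have h1 : ∑ j ∈ Finset.univ.erase i, (1 : ℕ∞) ≤ ∑ j ∈ Finset.univ.erase i, Module.length k (κ j) :=
      Finset.sum_le_sum fun j _ => hone j
    rw [Finset.sum_const, nsmul_one, Finset.card_erase_of_mem (Finset.mem_univ i), Finset.card_univ] at h1
    have h2 := hup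
    rw [← Finset.add_sum_erase _ _ (Finset.mem_univ i)] at h2
    have h3 := (add_le_add le_rfl h1).trans h2
    have h4 : Fintype.card ι = 1 + (Fintype.card ι - 1) := by
      have := Fintype.card_pos (α := ι); omega
    rw [h4, Nat.cast_add, Nat.cast_one, Nat.add_sub_cancel_left] at h3
    exact (WithTop.add_le_add_iff_right (ENat.natCast_ne_top _)).1 h3
  have hGbinj : Function.Injective Gb := by
    refine LinearMap.ker_eq_bot.1 (Submodule.eq_bot_iff _ |>.2 ?_)
    have he := Module.length_eq_add_of_exact (LinearMap.ker Gb).subtype Gb (LinearMap.ker Gb).injective_subtype hGb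
      (LinearMap.exact_subtype_ker_map Gb)
    have hsum : ∑ i, Module.length k (κ i) = (Fintype.card ι : ℕ∞) := by simp [hL]
    have e1 : Module.length C ((∀ i, D i) ⧸ LinearMap.range (Algebra.linearMap C (∀ i, D i))) =
        Module.length C ((∀ i, κ i) ⧸ Δ) :=
      WithTop.add_right_cancel ENat.one_ne_top (hlen.trans (hsum.symm.trans hqlen.symm))
    have hfin : Module.length C ((∀ i, κ i) ⧸ Δ) ≠ ⊤ := fun h => by
      rw [h, top_add, hsum] at hqlen
      exact ENat.natCast_ne_top _ hqlen.symm
    rw [e1] at he
    have hk0 : Module.length C (LinearMap.ker Gb) = 0 :=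
      (WithTop.add_right_cancel hfin ((zero_add _).trans he)).symm
    haveI := Module.length_eq_zero_iff.1 hk0
    exact fun x hx => congrArg Subtype.val (Subsingleton.elim (⟨x, hx⟩ : LinearMap.ker Gb) 0)
  -- uniformisers
  have hsurj : ∀ i, Function.Surjective ((residue (D i)).comp (algebraMap k (D i))) := fun i => by
    haveI : IsNoetherian k (κ i) := (isFiniteLength_iff_isNoetherian_isArtinian.1
      (Module.length_ne_top_iff.1 (by rw [hL i]; exact ENat.one_ne_top))).1
    have h1 : Module.finrank k (κ i) = 1 := by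
      have := hL i
      rw [Module.length_eq_finrank] at this
      exact_mod_cast this
    exact (LinearMap.injective_iff_surjective_of_finrank_eq_finrank (f := Algebra.linearMap k (κ i))
      (by rw [Module.finrank_self, h1])).1 (algebraMap k (κ i)).injective
  have hθ : ∀ i, ∃ θ : PowerSeries k ≃+* D i, ∀ a : k, θ (algebraMap k _ a) = algebraMap k (D i) a := fun i => by
    obtain ⟨x, hx⟩ := (IsPrincipalIdealRing.principal (maximalIdeal (D i))).1
    obtain ⟨φ, hφ, -⟩ := AdicBasics.exists_evalPS (K := k) (maximalIdeal (D i)) x (hx ▸ Ideal.mem_span_singleton_self x)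
    exact ⟨RingEquiv.ofBijective φ.toRingHom (AdicBasics.bijective_evalPS (hsurj i) hx φ hφ), φ.commutes⟩
  choose θ hθ using hθ
  have hcc : ∀ i (f : PowerSeries k), residue (D i) (θ i f) = ak i (PowerSeries.constantCoeff f) := fun i f => by
    have h0 : ¬ IsUnit (θ i (f - algebraMap k _ (PowerSeries.constantCoeff f))) := fun hu => by
      have h1 := (isUnit_map_iff (θ i) _).1 hu
      rw [PowerSeries.isUnit_iff_constantCoeff, map_sub, PowerSeries.algebraMap_apply, Algebra.algebraMap_self,
        RingHom.id_apply, PowerSeries.constantCoeff_C, sub_self] at h1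
      exact not_isUnit_zero h1
    rw [map_sub, hθ] at h0
    exact Ideal.Quotient.eq.2 ((mem_maximalIdeal _).2 h0)
  refine ⟨Pi.ringHom fun i => (θ i).symm.toRingHom.comp (algebraMap C (D i)), fun a b h => hinj (funext fun i =>
    (θ i).symm.injective (congrFun h i)), fun a => funext fun i => ?_, ?_⟩
  · show (θ i).symm (algebraMap C (D i) (algebraMap k C a)) = _
    rw [← IsScalarTower.algebraMap_apply, ← hθ i a, RingEquiv.symm_apply_apply]
  · ext f
    constructor
    · rintro ⟨c, rfl⟩ i j
      refine ((ak i).injective ?_).trans ((ak j).injective ?_).symm (b := ρ c)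
      · rw [← hcc]
        show residue (D i) (θ i ((θ i).symm _)) = _
        rw [RingEquiv.apply_symm_apply]
        exact hdec c i
      · rw [← hcc]
        show residue (D j) (θ j ((θ j).symm _)) = _
        rw [RingEquiv.apply_symm_apply]
        exact hdec c j
    · intro hf
      obtain ⟨i₀⟩ := hne
      let b : ∀ i, D i := fun i => θ i (f i)
      have h1 : Gb (Submodule.Quotient.mk b) = 0 := by
        refine (Submodule.Quotient.mk_eq_zero Δ).2 ⟨algebraMap k C (PowerSeries.constantCoeff (f i₀)), funext fun i => ?_⟩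
        show residue (D i) (algebraMap C (D i) _) = residue (D i) (θ i (f i))
        rw [hcc, hdec, hρk, hf i i₀]
        rfl
      obtain ⟨c, hc⟩ := (Submodule.Quotient.mk_eq_zero _).1 (hGbinj (h1.trans (map_zero Gb).symm))
      refine ⟨c, funext fun i => ?_⟩
      show (θ i).symm (algebraMap C (D i) c) = f i
      rw [show algebraMap C (D i) c = θ i (f i) from congrFun hc i, RingEquiv.symm_apply_apply]

/-- the normalisation of a branch -/
abbrev Branch (C : Type u) [CommRing C] (p : NagataOne.Min C) : Type u := ↥(integralClosure C (NagataOne.Kp C p))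

theorem isLocalHom_branch (C : Type u) [CommRing C] [IsLocalRing C] (p : NagataOne.Min C)
    [IsLocalRing (Branch C p)] : IsLocalHom (algebraMap C (Branch C p)) := ⟨fun c hc => by
  by_contra hu
  have hm : c ∈ maximalIdeal C := (mem_maximalIdeal c).2 hu
  haveI : ((maximalIdeal (Branch C p)).comap (algebraMap C (Branch C p))).IsMaximal :=
    Ideal.isMaximal_comap_of_isIntegral_of_isMaximal _
  rw [← eq_maximalIdeal this] at hm
  exact (mem_maximalIdeal _).1 hm hc⟩

theorem isDVR_branch (C : Type u) [CommRing C] [IsLocalRing C] [IsNoetherianRing C] [_root_.IsReduced C]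
    (hdim : ringKrullDim C = 1) (p : NagataOne.Min C) [Module.Finite C (Branch C p)]
    [IsLocalRing (Branch C p)] [IsLocalHom (algebraMap C (Branch C p))] :
    IsDiscreteValuationRing (Branch C p) := by
  haveI := NagataOne.finite_min C
  haveI := NagataOne.isIntegrallyClosed_closure C p
  haveI : IsNoetherianRing (Branch C p) := IsNoetherianRing.of_finite C (Branch C p)
  haveI := DeltaBC.krullDimLE_of_isIntegral (A := C) (C := Branch C p) 1 hdim.le
  have hnf : ¬ IsField (Branch C p) := fun hF => by
    have h0 : ∀ c ∈ maximalIdeal C, c ∈ p.1 := fun c hc => by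
      have h1 : algebraMap C (Branch C p) c = 0 := by
        by_contra hne
        letI := hF.toField
        exact (mem_maximalIdeal c).1 hc (isUnit_of_map_unit (algebraMap C (Branch C p)) c (isUnit_iff_ne_zero.2 hne))
      exact (NagataOne.algebraMap_Kp_eq_zero C).1 (congrArg Subtype.val h1)
    have hdd : (1 : WithBot ℕ∞) ≤ 0 := by
      rw [← hdim, ← IsLocalRing.maximalIdeal_height_eq_ringKrullDim,
        le_antisymm h0 (le_maximalIdeal p.2.1.1.ne_top), Ideal.height_eq_zero_iff.2 p.2]
      rfl
    exact absurd hdd (by norm_num)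
  have h1 : maximalIdeal (Branch C p) ≠ ⊥ := fun h => hnf (IsLocalRing.isField_iff_maximalIdeal_eq.2 h)
  have T : IsDiscreteValuationRing (Branch C p) ↔
      IsIntegrallyClosed (Branch C p) ∧ ∃! P : Ideal (Branch C p), P ≠ ⊥ ∧ P.IsPrime :=
    (IsDiscreteValuationRing.TFAE (Branch C p) hnf).out 0 3
  refine T.2 ⟨inferInstance, maximalIdeal (Branch C p), ⟨h1, inferInstance⟩, fun P hP => ?_⟩
  exact eq_maximalIdeal (Ring.krullDimLE_one_iff_of_noZeroDivisors.1 inferInstance P hP.1 hP.2)

/-- complete local rings with `δ = branches - 1` -/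
theorem exists_multicross {k C : Type u} [Field k] [CommRing C] [IsLocalRing C] [IsNoetherianRing C]
    [_root_.IsReduced C] [IsAdicComplete (maximalIdeal C) C] [Algebra k C]
    (hres : Function.Bijective ((residue C).comp (algebraMap k C))) (hdim : ringKrullDim C = 1)
    {n : ℕ} (hn : Brnch.numBranches C = n) (hδ : Curv2.deltaInv C + 1 = n) :
    ∃ φ : C →+* (Fin n → PowerSeries k), Function.Injective φ ∧
      (∀ c : k, φ (algebraMap k C c) = fun _ => algebraMap k (PowerSeries k) c) ∧
      Set.range φ = {f : Fin n → PowerSeries k | ∀ i j, PowerSeries.constantCoeff (f i) = PowerSeries.constantCoeff (f j)} := by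
  classical
  have hN := Nagata.isNagata_of_complete C
  haveI := NagataOne.finite_min C
  letI := Fintype.ofFinite (NagataOne.Min C)
  let D := Branch C
  haveI : ∀ p, Module.Finite C (D p) := fun p => NagataOne.finite_closure_Kp C hN p
  haveI : ∀ p, IsLocalRing (D p) := fun p => FinComplete.isLocalRing_of_isDomain C (D p)
  haveI : ∀ p, IsLocalHom (algebraMap C (D p)) := fun p => isLocalHom_branch C p
  haveI : ∀ p, IsDiscreteValuationRing (D p) := fun p => isDVR_branch C hdim p
  haveI : ∀ p, IsAdicComplete (maximalIdeal (D p)) (D p) := fun p => FinComplete.isAdicComplete_of_isLocalRing C (D p)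
  letI : ∀ p, Algebra k (D p) := fun p => ((algebraMap C (D p)).comp (algebraMap k C)).toAlgebra
  haveI : ∀ p, IsScalarTower k C (D p) := fun p => IsScalarTower.of_algebraMap_eq fun _ => rfl
  let e := AlgEquiv.ofBijective _ (NagataOne.closureToPi_bijective C)
  -- the number of factors
  have hcard : Fintype.card (NagataOne.Min C) = n := by
    obtain ⟨g, -⟩ := Groth.Agent.S16431.exists_normRed_equiv C
    let E : CAlg2.normRed C ≃+* (∀ p, D p) := g.trans e.toRingEquiv
    rw [Brnch.numBranches, if_pos (minimalPrimes.finite_of_isNoetherianRing C)] at hn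
    rw [ENat.card_congr ((maxSpecEquiv E).trans (maxSpecPi D).symm),
      ENat.card_eq_coe_fintype_card] at hn
    exact_mod_cast hn
  have hinj : Function.Injective (algebraMap C (∀ p, D p)) := by
    rw [show algebraMap C (∀ p, D p) = e.toRingEquiv.toRingHom.comp
      (algebraMap C (integralClosure C (FractionRing C))) from RingHom.ext fun c => (e.commutes c).symm]
    exact e.injective.comp fun a b h => IsFractionRing.injective C (FractionRing C) (congrArg Subtype.val h)
  have hlen : Module.length C ((∀ p, D p) ⧸ LinearMap.range (Algebra.linearMap C (∀ p, D p))) + 1 =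
      Fintype.card (NagataOne.Min C) := by
    rw [hcard, ← hδ]
    congr 1
    refine (Submodule.Quotient.equiv _ _ e.toLinearEquiv ?_).length_eq.symm
    rw [← LinearMap.range_comp]
    exact congrArg LinearMap.range (LinearMap.ext fun c => e.commutes c)
  obtain ⟨φ, h1, h2, h3⟩ := multicross_core hres D hinj hlen
  let σ : Fin n ≃ NagataOne.Min C := (finCongr hcard.symm).trans (Fintype.equivFin _).symm
  let T : (NagataOne.Min C → PowerSeries k) →+* (Fin n → PowerSeries k) :=
    Pi.ringHom fun i => Pi.evalRingHom (fun _ => PowerSeries k) (σ i)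
  refine ⟨T.comp φ, fun a b h => h1 (funext fun p => by
    obtain ⟨i, rfl⟩ := σ.surjective p
    exact congrFun h i), fun a => funext fun i => congrFun (h2 a) (σ i), ?_⟩
  ext f
  constructor
  · rintro ⟨c, rfl⟩ i j
    exact h3.le ⟨c, rfl⟩ (σ i) (σ j)
  · intro hf
    obtain ⟨c, hc⟩ := h3.ge (fun p q => hf (σ.symm p) (σ.symm q) :
      (fun p => f (σ.symm p)) ∈ {f : NagataOne.Min C → PowerSeries k |
        ∀ i j, PowerSeries.constantCoeff (f i) = PowerSeries.constantCoeff (f j)})
    refine ⟨c, funext fun i => ?_⟩
    show φ c (σ i) = f i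
    rw [hc]
    exact congrArg f (σ.symm_apply_apply i)

end Groth.Agent.DeltaNorm
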